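import Groth.Agent.Lib.Modules.AffineSections
import Groth.Agent.Lib.Modules.AffineHom
import Groth.Agent.Lib.Pinch.StalkFrame
import Groth.Agent.Lib.TensorMod.Basis
import Groth.Prelude.Def_ExtPow2
import Mathlib.LinearAlgebra.ExteriorPower.Basis

/-!
# Exterior powers of finite locally free modules are finite locally free
-/

set_option autoImplicit false
set_option linter.style.haveILetI false
universe u

open CategoryTheory CategoryTheory.Limits AlgebraicGeometry Opposite TopologicalSpace

namespace Groth.Agent.Lib.GrassGen.ExtPowFree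

open Groth.Agent.Lib
open Groth.Agent.Lib.TensorMod.Dual (rs rf rs_rs rs_self rf_rf)
open Groth.Agent.Lib.Modules.AffineHom (exists_affine)

variable {X : Scheme.{u}} {M : X.Modules} {r : ℕ}

/-- Sections forming bases on affine opens form frames. -/
theorem isFrame_of_affine {A : X.Opens} {w : Fin r → Γ(M, A)}
    (h : ∀ (V : X.affineOpens) (hV : V.1 ≤ A), Function.Bijective (Pinch.StalkFrame.comb w hV)) :
    Pinch.StalkFrame.IsFrame M A w := by
  intro x hx
  refine ⟨fun c c' hcc => ?_, fun v => ?_⟩
  · choose O hxO t ht using fun i => TopCat.Presheaf.exists_germ_eq X.presheaf (c i)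
    choose O' hxO' t' ht' using fun i => TopCat.Presheaf.exists_germ_eq X.presheaf (c' i)
    let N : X.Opens := A ⊓ (Finset.univ.inf O ⊓ Finset.univ.inf O')
    have hxi : ∀ P : Fin r → X.Opens, (∀ i, x ∈ P i) → x ∈ Finset.univ.inf P := fun P hP => by
      rw [← SetLike.mem_coe, Opens.coe_finset_inf, Finset.inf_set_eq_iInter]
      simp only [Set.mem_iInter]
      exact fun i _ => hP i
    have hxN : x ∈ N := ⟨hx, hxi O hxO, hxi O' hxO'⟩
    have hNO : ∀ i, N ≤ O i := fun i => inf_le_right.trans (inf_le_left.trans (Finset.inf_le (Finset.mem_univ i)))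
    have hNO' : ∀ i, N ≤ O' i := fun i => inf_le_right.trans (inf_le_right.trans (Finset.inf_le (Finset.mem_univ i)))
    have hg : M.presheaf.germ N x hxN (Pinch.StalkFrame.comb w inf_le_left fun i => rf (hNO i) (t i)) =
        M.presheaf.germ N x hxN (Pinch.StalkFrame.comb w inf_le_left fun i => rf (hNO' i) (t' i)) := by
      rw [Pinch.StalkFrame.germ_comb, Pinch.StalkFrame.germ_comb]
      refine Eq.trans ?_ (Eq.trans hcc ?_) <;> refine Finset.sum_congr rfl fun i _ => congrArg (· • _) ?_
      · exact (TopCat.Presheaf.germ_res_apply X.presheaf (homOfLE (hNO i)) x hxN (t i)).trans (ht i)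
      · exact ((TopCat.Presheaf.germ_res_apply X.presheaf (homOfLE (hNO' i)) x hxN (t' i)).trans (ht' i)).symm
    obtain ⟨Z, hxZ, i₁, i₂, hZ⟩ := TopCat.Presheaf.germ_eq M.presheaf x hxN hxN _ _ hg
    obtain ⟨V, hV, hxV⟩ := exists_affine hxZ
    have hVN : V.1 ≤ N := hV.trans i₁.le
    have h1 := congrArg (rs M hV) hZ
    change rs M hV (rs M i₁.le _) = rs M hV (rs M i₁.le _) at h1
    rw [rs_rs, rs_rs, Pinch.StalkFrame.rs_comb, Pinch.StalkFrame.rs_comb] at h1
    have h2 := (h V (hVN.trans inf_le_left)).1 h1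
    funext i
    have h3 := congrArg (X.presheaf.germ V.1 x hxV) (congrFun h2 i)
    rw [rf_rf, rf_rf] at h3
    exact (ht i).symm.trans ((((TopCat.Presheaf.germ_res_apply X.presheaf (homOfLE (hVN.trans (hNO i))) x hxV (t i)).symm.trans h3).trans
      (TopCat.Presheaf.germ_res_apply X.presheaf (homOfLE (hVN.trans (hNO' i))) x hxV (t' i))).trans (ht' i))
  · obtain ⟨O, hxO, m, rfl⟩ := TopCat.Presheaf.exists_germ_eq M.presheaf v
    obtain ⟨V, hV, hxV⟩ := exists_affine (show x ∈ A ⊓ O from ⟨hx, hxO⟩)
    obtain ⟨c, hc⟩ := (h V (hV.trans inf_le_left)).2 (rs M (hV.trans inf_le_right) m)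
    refine ⟨fun i => X.presheaf.germ V.1 x hxV (c i), ?_⟩
    show ∑ i, X.presheaf.germ V.1 x hxV (c i) • M.presheaf.germ A x hx (w i) = _
    refine ((Pinch.StalkFrame.germ_comb w (hV.trans inf_le_left) c hxV).symm.trans ?_)
    rw [hc]
    exact TopCat.Presheaf.germ_res_apply M.presheaf (homOfLE (hV.trans inf_le_right)) x hxV m

/-- An exterior power of a finite locally free module is finite locally free. -/
theorem isFinLocFree {E L : X.Modules} {q : ℕ} (hE : FlatMod.IsFinLocFree E)
    (hL : ExtPow.IsExtPow q E L) : FlatMod.IsFinLocFree L := by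
  classical
  obtain ⟨φ, hφ⟩ := hL
  intro x
  obtain ⟨U, n, hxU, ⟨i⟩⟩ := hE x
  obtain ⟨e₀, he₀⟩ := TensorMod.Basis.exists_basis_of_iso i
  obtain ⟨A, hAU, hxA⟩ := exists_affine hxU
  let e := fun k => rs E hAU (e₀ k)
  have he : TensorMod.Basis.IsBasis e := he₀.res hAU
  let I := Set.powersetCard (Fin n) q
  let ε : I ≃ Fin (Fintype.card I) := Fintype.equivFin I
  let w : Fin (Fintype.card I) → Γ(L, A.1) := fun k =>
    (φ A).symm (exteriorPower.ιMulti_family Γ(X, A.1) q e (ε.symm k))
  have hw : Pinch.StalkFrame.IsFrame L A.1 w := isFrame_of_affine fun V hV => by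
    let b : Module.Basis (Fin n) Γ(X, V.1) Γ(E, V.1) :=
      Module.Basis.ofEquivFun (LinearEquiv.ofBijective
        (Fintype.linearCombination Γ(X, V.1) fun k => rs E hV (e k)) (by
          rw [show ⇑(Fintype.linearCombination Γ(X, V.1) fun k => rs E hV (e k)) = TensorMod.Basis.comb e hV from
            funext fun a => by simp only [Fintype.linearCombination_apply, TensorMod.Basis.comb]]
          exact he V.1 hV)).symm
    have hb : ⇑b = fun k => rs E hV (e k) := funext fun k => by
      simp only [b, Module.Basis.coe_ofEquivFun, LinearEquiv.symm_symm, LinearEquiv.ofBijective_apply]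
      exact (Fintype.linearCombination_apply_single _ _ k 1).trans (one_smul _ _)
    let B : Module.Basis (Fin (Fintype.card I)) Γ(X, V.1) Γ(L, V.1) :=
      ((b.exteriorPower q).map (φ V).symm).reindex ε
    have hB : ∀ k, B k = rs L hV (w k) := fun k => by
      show (((b.exteriorPower q).map (φ V).symm).reindex ε) k = _
      rw [Module.Basis.reindex_apply, Module.Basis.map_apply]
      refine Eq.trans ?_ (hφ A V hV _).symm
      rw [exteriorPower.basis_apply, hb]
      rfl
    rw [show Pinch.StalkFrame.comb w hV = B.equivFun.symm from funext fun c => by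
      simp only [Pinch.StalkFrame.comb, Module.Basis.equivFun_symm_apply, hB]]
    exact B.equivFun.symm.bijective
  exact ⟨A.1, _, hxA, TensorMod.Basis.exists_iso_of_basis (e := w) fun V hV =>
    ⟨Pinch.StalkFrame.comb_injective hw hV, Pinch.StalkFrame.comb_surjective hw hV⟩⟩

end Groth.Agent.Lib.GrassGen.ExtPowFree
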