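import Groth.Agent.Lib.ProjMor.SecKer
import Groth.Agent.Lib.DescAlg.PbSec
import Groth.Agent.Lib.Modules.OpenRes
import Groth.Agent.Lib.QCoh.Pullback

/-!
# Morphisms out of inverse images of quasi-coherent modules over an affine open
-/

set_option autoImplicit false
set_option linter.style.haveILetI false
set_option backward.isDefEq.respectTransparency false
set_option backward.isDefEq.respectTransparency.types false
universe u

open CategoryTheory CategoryTheory.Limits AlgebraicGeometry Opposite TopologicalSpace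
open ZarCoh.FlatBC.PullbackSections (pbRes)

namespace Groth.Agent.Lib.GrassGen.AffineHom

open Groth.Agent.Lib

variable {X T : Scheme.{u}} {U : X.Opens} (hU : IsAffineOpen U) (g : T ⟶ X) (e : (⊤ : T.Opens) ≤ g ⁻¹ᵁ U)

/-- The factorisation through the affine open. -/
noncomputable abbrev fac : T ⟶ Spec Γ(X, U) := T.toSpecΓ ≫ Spec.map (g.appLE U ⊤ e)

theorem fac_fromSpec : fac g e ≫ hU.fromSpec = g := by
  have h := Scheme.Opens.toSpecΓ_SpecMap_appLE g U ⊤ e
  rw [Scheme.Opens.toSpecΓ_top] at h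
  haveI : IsIso (⊤ : T.Opens).ι := inferInstanceAs (IsIso T.topIso.hom)
  rw [← cancel_epi (⊤ : T.Opens).ι, ← Category.assoc, ← Category.assoc _ T.toSpecΓ] 
  rw [h, Category.assoc, hU.toSpecΓ_fromSpec, Scheme.Hom.resLE_comp_ι]

theorem fac_appTop (r : Γ(X, U)) : (fac g e).appTop ((Scheme.ΓSpecIso Γ(X, U)).inv r) = g.appLE U ⊤ e r := by
  have h : (Scheme.ΓSpecIso Γ(X, U)).inv ≫ (fac g e).appTop = g.appLE U ⊤ e := by
    rw [Scheme.Hom.comp_appTop, Scheme.toSpecΓ_appTop, ← Scheme.ΓSpecIso_inv_naturality_assoc,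
      Iso.inv_hom_id, Category.comp_id]
  exact congr($h r)

variable (E : X.Modules)

theorem smul_fac (v : Γ((Scheme.Modules.pullback hU.fromSpec).obj E, ⊤)) (r : Γ(X, U)) :
    pbRes (fac g e) ((Scheme.Modules.pullback hU.fromSpec).obj E) (le_refl ⊤) (r • v) =
      g.appLE U ⊤ e r • pbRes (fac g e) ((Scheme.Modules.pullback hU.fromSpec).obj E) (le_refl ⊤) v := by
  rw [ProjMor.SecKer.smul_top, ZarCoh.FlatBC.PullbackSections.pbRes_smul]
  congr 1
  rw [← fac_appTop g e r]
  exact congr($(Scheme.Hom.appLE_eq_app (fac g e) (U := ⊤)) _)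

theorem pbRes_fromSpec_smul (r : Γ(X, U)) (m : Γ(E, U)) :
    pbRes hU.fromSpec E hU.fromSpec_preimage_self.ge (r • m) = r • pbRes hU.fromSpec E hU.fromSpec_preimage_self.ge m := by
  rw [ProjMor.SecKer.smul_top, ZarCoh.FlatBC.PullbackSections.pbRes_smul]
  congr 1
  have h : hU.fromSpec.appLE U ⊤ hU.fromSpec_preimage_self.ge = (Scheme.ΓSpecIso Γ(X, U)).inv := by
    rw [Scheme.Hom.appLE, hU.fromSpec_app_self, Category.assoc, ← Functor.map_comp]
    exact (congrArg ((Scheme.ΓSpecIso Γ(X, U)).inv ≫ ·) ((Spec Γ(X, U)).presheaf.map_id _)).trans (Category.comp_id _)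
  exact congr($h r)

theorem bijective_pbRes_fromSpec :
    Function.Bijective (pbRes hU.fromSpec E hU.fromSpec_preimage_self.ge) :=
  Modules.OpenRes.bijective_pbRes hU.fromSpec E (by rw [hU.opensRange_fromSpec]) _ hU.fromSpec_preimage_self.symm

theorem hom_ext_section (a : (Scheme.Modules.pullback (fac g e)).obj ((Scheme.Modules.pullback hU.fromSpec).obj E) ⟶
    (Scheme.Modules.pullback g).obj E) (ha : a = (DescAlg.PbSec.tr (fac g e) (fac_fromSpec hU g e) E).hom) (m : Γ(E, U)) :
    a.app ⊤ (pbRes (fac g e) _ (le_refl ⊤) (pbRes hU.fromSpec E hU.fromSpec_preimage_self.ge m)) = pbRes g E e m := by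
  subst ha
  exact (DescAlg.PbSec.R_eq (fac g e) (fac_fromSpec hU g e) E (le_refl ⊤) _).symm.trans
    (DescAlg.PbSec.R_pbRes (fac g e) (fac_fromSpec hU g e) E _ _ m)

/-- Morphisms out of a quasi-coherent module on an affine scheme are determined on global sections. -/
theorem hom_ext_Spec {R : CommRingCat.{u}} {M N : (Spec R).Modules} [M.IsQuasicoherent] (a b : M ⟶ N)
    (h : moduleSpecΓFunctor.map a = moduleSpecΓFunctor.map b) : a = b := by
  haveI : IsIso ((tilde.adjunction (R := R)).counit.app M) :=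
    Scheme.Modules.isIso_fromTildeΓ_of_isQuasicoherent M
  rw [← cancel_epi ((tilde.adjunction (R := R)).counit.app M)]
  refine ((tilde.adjunction (R := R)).counit.naturality a).symm.trans
    (Eq.trans ?_ ((tilde.adjunction (R := R)).counit.naturality b))
  rw [Functor.comp_map, Functor.comp_map, h]

include hU in
/-- Morphisms out of the inverse image are determined on the pulled back sections over the affine open. -/
theorem hom_ext [E.IsQuasicoherent] {N : T.Modules} (a b : (Scheme.Modules.pullback g).obj E ⟶ N)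
    (h : ∀ m : Γ(E, U), a.app ⊤ (pbRes g E e m) = b.app ⊤ (pbRes g E e m)) : a = b := by
  haveI hq : ((Scheme.Modules.pullback hU.fromSpec).obj E).IsQuasicoherent := QCoh.Pullback.isQCoh_pullback _ E
  let t := DescAlg.PbSec.tr (fac g e) (fac_fromSpec hU g e) E
  rw [← cancel_epi t.hom]
  apply ((Scheme.Modules.pullbackPushforwardAdjunction (fac g e)).homEquiv _ _).injective
  refine hom_ext_Spec (R := Γ(X, U)) _ _ ?_
  ext v
  obtain ⟨m, rfl⟩ := (bijective_pbRes_fromSpec hU E).2 v
  rw [Adjunction.homEquiv_unit, Adjunction.homEquiv_unit]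
  have hs := hom_ext_section hU g e E t.hom rfl m
  have key : ∀ c : (Scheme.Modules.pullback g).obj E ⟶ N, c.app ⊤ (pbRes g E e m) =
      (t.hom ≫ c).app ⊤ (pbRes (fac g e) _ (le_refl ⊤) (pbRes hU.fromSpec E hU.fromSpec_preimage_self.ge m)) := by
    intro c
    rw [Scheme.Modules.Hom.comp_app, CategoryTheory.comp_apply, hs]
  have := h m
  rw [key, key] at this
  have e2 : pbRes (fac g e) ((Scheme.Modules.pullback hU.fromSpec).obj E) (le_refl ⊤)
      (pbRes hU.fromSpec E hU.fromSpec_preimage_self.ge m) =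
      ((Scheme.Modules.pullbackPushforwardAdjunction (fac g e)).unit.app _).app ⊤
        (pbRes hU.fromSpec E hU.fromSpec_preimage_self.ge m) := TensorMod.Dual.rs_self _ _ _
  rw [e2] at this
  exact this

include hU in
/-- Semilinear maps on sections over the affine open give morphisms out of the inverse image. -/
theorem exists_hom [E.IsQuasicoherent] {N : T.Modules} (φ : Γ(E, U) → Γ(N, ⊤))
    (hadd : ∀ a b, φ (a + b) = φ a + φ b) (hsmul : ∀ (r : Γ(X, U)) m, φ (r • m) = g.appLE U ⊤ e r • φ m) :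
    ∃ Ψ : (Scheme.Modules.pullback g).obj E ⟶ N, ∀ m, Ψ.app ⊤ (pbRes g E e m) = φ m := by
  let E' := (Scheme.Modules.pullback hU.fromSpec).obj E
  haveI hq : E'.IsQuasicoherent := QCoh.Pullback.isQCoh_pullback _ E
  let σ := Equiv.ofBijective _ (bijective_pbRes_fromSpec hU E)
  have hσadd : ∀ a b, σ.symm (a + b) = σ.symm a + σ.symm b := fun a b => σ.injective (by
    show σ (σ.symm (a + b)) = pbRes hU.fromSpec E _ (σ.symm a + σ.symm b)
    rw [Equiv.apply_symm_apply, map_add]
    exact (congrArg₂ (· + ·) (σ.apply_symm_apply a) (σ.apply_symm_apply b)).symm)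
  have hσsmul : ∀ (r : Γ(X, U)) a, σ.symm (r • a) = r • σ.symm a := fun r a => σ.injective (by
    show σ (σ.symm (r • a)) = pbRes hU.fromSpec E _ (r • σ.symm a)
    rw [Equiv.apply_symm_apply, pbRes_fromSpec_smul]
    exact congrArg (r • ·) (σ.apply_symm_apply a).symm)
  let lin : (moduleSpecΓFunctor (R := Γ(X, U))).obj E' ⟶ (moduleSpecΓFunctor (R := Γ(X, U))).obj ((Scheme.Modules.pushforward (fac g e)).obj N) :=
    ModuleCat.ofHom (R := Γ(X, U)) (X := Γ(E', ⊤)) (Y := Γ((Scheme.Modules.pushforward (fac g e)).obj N, ⊤))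
      { toFun := fun v => φ (σ.symm v)
        map_add' := fun a b => by
          show φ (σ.symm (a + b)) = _
          rw [hσadd, hadd]
        map_smul' := fun r a => by
          show φ (σ.symm (r • a)) = r • (show Γ((Scheme.Modules.pushforward (fac g e)).obj N, ⊤) from φ (σ.symm a))
          rw [hσsmul, hsmul, ProjMor.SecKer.smul_top, ← fac_appTop g e r]
          rfl }
  obtain ⟨ψ, hψ⟩ := ProjMor.SecKer.exists_hom E' _ lin
  refine ⟨(DescAlg.PbSec.tr (fac g e) (fac_fromSpec hU g e) E).inv ≫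
    ((Scheme.Modules.pullbackPushforwardAdjunction (fac g e)).homEquiv _ _).symm ψ, fun m => ?_⟩
  have hs := hom_ext_section hU g e E _ rfl m
  rw [← hs, Scheme.Modules.Hom.comp_app, CategoryTheory.comp_apply,
    ← CategoryTheory.comp_apply ((DescAlg.PbSec.tr (fac g e) (fac_fromSpec hU g e) E).hom.app ⊤),
    ← Scheme.Modules.Hom.comp_app, Iso.hom_inv_id, Scheme.Modules.Hom.id_app, CategoryTheory.id_apply]
  have h1 : ψ.app ⊤ (σ m) = φ m := by
    refine (congrArg (fun f => f.hom (σ m)) hψ).trans ?_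
    show φ (σ.symm (σ m)) = _
    rw [Equiv.symm_apply_apply]
  refine Eq.trans ?_ h1
  conv_rhs => rw [← ((Scheme.Modules.pullbackPushforwardAdjunction (fac g e)).homEquiv _ _).apply_symm_apply ψ,
    Adjunction.homEquiv_unit]
  exact congrArg _ (TensorMod.Dual.rs_self _ _ _)

end Groth.Agent.Lib.GrassGen.AffineHom
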