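import Groth.Agent.Lib.Pinch.StalkFrame
import Mathlib.LinearAlgebra.Matrix.NonsingularInverse

/-!
# The open locus where sections form a frame
-/

set_option autoImplicit false
set_option linter.style.haveILetI false
universe u

open CategoryTheory CategoryTheory.Limits AlgebraicGeometry Opposite TopologicalSpace
open ZarCoh.FlatBC.PullbackSections (pbRes)

namespace Groth.Agent.Lib.GrassGen.Frames

noncomputable section

open Groth.Agent.Lib Pinch.StalkFrame
open Groth.Agent.Lib.TensorMod.Dual (rs rf rs_rs rs_self rs_smul)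

variable {X Y : Scheme.{u}} {M M' : X.Modules} {r : ℕ} {U W : X.Opens}

/-- The germs at `x` form a basis of the stalk. -/
def At (y : Fin r → Γ(M, U)) (x : X) (hx : x ∈ U) : Prop :=
  Function.Bijective fun c : Fin r → X.presheaf.stalk x => ∑ i, c i • M.presheaf.germ U x hx (y i)

theorem at_res (y : Fin r → Γ(M, U)) (h : W ≤ U) {x : X} (hx : x ∈ W) :
    At (fun k => rs M h (y k)) x hx ↔ At y x (h hx) := by
  have : ∀ k, M.presheaf.germ W x hx (rs M h (y k)) = M.presheaf.germ U x (h hx) (y k) := fun k =>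
    TopCat.Presheaf.germ_res_apply M.presheaf (homOfLE h) x hx (y k)
  simp only [At, this]

theorem at_iso (i : M ≅ M') (y : Fin r → Γ(M, U)) {x : X} (hx : x ∈ U) :
    At (fun k => i.hom.app U (y k)) x hx ↔ At y x hx := by
  let ε := Modules.StalkModule.stalkLinearEquiv i x
  have hε : ∀ m, ε (M.presheaf.germ U x hx m) = M'.presheaf.germ U x hx (i.hom.app U m) := fun m =>
    Modules.StalkModule.stalkMapₗ_germ i.hom hx m
  have : (fun c : Fin r → X.presheaf.stalk x => ∑ k, c k • M'.presheaf.germ U x hx (i.hom.app U (y k))) =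
      ε ∘ fun c => ∑ k, c k • M.presheaf.germ U x hx (y k) := by
    funext c
    simp only [Function.comp_apply, map_sum, map_smul, hε]
  rw [At, this, At, EquivLike.comp_bijective]

/-- The coefficient matrix criterion. -/
theorem at_comb_iff {e : Fin r → Γ(M, U)} (he : IsFrame M U e) (h : W ≤ U)
    (C : Matrix (Fin r) (Fin r) Γ(X, W)) {x : X} (hx : x ∈ W) :
    At (fun k => comb e h (C k)) x hx ↔ IsUnit (X.presheaf.germ W x hx C.det) := by
  let Cx : Matrix (Fin r) (Fin r) (X.presheaf.stalk x) := C.map (X.presheaf.germ W x hx)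
  have hdet : X.presheaf.germ W x hx C.det = Cx.det := RingHom.map_det (X.presheaf.germ W x hx).hom C
  have hfun : (fun c : Fin r → X.presheaf.stalk x => ∑ k, c k • M.presheaf.germ W x hx (comb e h (C k))) =
      (fun d : Fin r → X.presheaf.stalk x => ∑ l, d l • M.presheaf.germ U x (h hx) (e l)) ∘
        fun c => Matrix.vecMul c Cx := by
    funext c
    simp only [Function.comp_apply, germ_comb, Finset.smul_sum, smul_smul, Matrix.vecMul, dotProduct,
      Cx, Matrix.map_apply, Finset.sum_smul]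
    exact Finset.sum_comm
  rw [hdet, ← Matrix.isUnit_iff_isUnit_det, At, hfun, Function.Bijective.of_comp_iff' (he x (h hx))]
  exact ⟨fun hb => Matrix.vecMul_surjective_iff_isUnit.1 hb.2,
    fun hu => ⟨Matrix.vecMul_injective_of_isUnit hu, Matrix.vecMul_surjective_iff_isUnit.2 hu⟩⟩

/-- Coefficients in a local frame. -/
theorem exists_coeff (hM : FlatMod.IsFinLocFreeOfRank r M) (y : Fin r → Γ(M, U)) {x : X} (hx : x ∈ U) :
    ∃ (V : X.Opens) (_ : x ∈ V) (hV : V ≤ U) (e : Fin r → Γ(M, V)) (_ : IsFrame M V e)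
      (C : Matrix (Fin r) (Fin r) Γ(X, V)), ∀ k, comb e le_rfl (C k) = rs M hV (y k) := by
  obtain ⟨U₀, hxU₀, ⟨i⟩⟩ := hM x
  obtain ⟨e, he⟩ := exists_isFrame_of_iso i
  have he' : IsFrame M (U₀ ⊓ U) fun k => rs M inf_le_left (e k) := fun z hz =>
    (at_res e inf_le_left hz).2 (he z hz.1)
  choose C hC using fun k => comb_surjective he' le_rfl (rs M (inf_le_right : U₀ ⊓ U ≤ U) (y k))
  exact ⟨U₀ ⊓ U, ⟨hxU₀, hx⟩, inf_le_right, _, he', C, hC⟩

/-- The frame locus is open. -/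
theorem isOpen_setOf (hM : FlatMod.IsFinLocFreeOfRank r M) (y : Fin r → Γ(M, U)) :
    IsOpen {x : X | ∃ hx : x ∈ U, At y x hx} := by
  refine isOpen_iff_forall_mem_open.2 ?_
  rintro x ⟨hx, hAt⟩
  obtain ⟨V, hxV, hV, e, he, C, hC⟩ := exists_coeff hM y hx
  have key : ∀ z (hz : z ∈ V), At y z (hV hz) ↔ z ∈ X.basicOpen C.det := fun z hz => by
    rw [← at_res y hV hz, ← funext hC, at_comb_iff he le_rfl C hz]; exact (X.mem_basicOpen _ z hz).symm
  exact ⟨X.basicOpen C.det, fun z hz => ⟨hV (X.basicOpen_le _ hz), (key z (X.basicOpen_le _ hz)).2 hz⟩,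
    (X.basicOpen C.det).isOpen, (key x hxV).1 hAt⟩

/-- The frame locus. -/
def locus (hM : FlatMod.IsFinLocFreeOfRank r M) (y : Fin r → Γ(M, U)) : X.Opens :=
  ⟨{x : X | ∃ hx : x ∈ U, At y x hx}, isOpen_setOf hM y⟩

theorem pbRes_comb (f : Y ⟶ X) (e : Fin r → Γ(M, U)) (h : W ≤ U) (c : Fin r → Γ(X, W)) {V : Y.Opens}
    (hV : V ≤ f ⁻¹ᵁ W) :
    pbRes f M hV (comb e h c) =
      comb (fun l => pbRes f M (hV.trans (f.preimage_mono h)) (e l)) le_rfl fun l => f.appLE W V hV (c l) := by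
  rw [comb, comb, map_sum]
  refine Finset.sum_congr rfl fun l _ => ?_
  rw [ZarCoh.FlatBC.PullbackSections.pbRes_smul, rs_self, pbRes_rs]

/-- Pulled back sections form a frame at a point exactly when the sections do at its image. -/
theorem at_pbRes_iff (hM : FlatMod.IsFinLocFreeOfRank r M) (f : Y ⟶ X) (y : Fin r → Γ(M, U)) {V : Y.Opens}
    (hV : V ≤ f ⁻¹ᵁ U) {z : Y} (hz : z ∈ V) :
    At (fun k => pbRes f M hV (y k)) z hz ↔ At y (f z) (hV hz) := by
  obtain ⟨U₁, hxU₁, hU₁, e, he, C, hC⟩ := exists_coeff hM y (hV hz)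
  have hW : V ⊓ f ⁻¹ᵁ U₁ ≤ f ⁻¹ᵁ U₁ := inf_le_right
  have hzW : z ∈ V ⊓ f ⁻¹ᵁ U₁ := ⟨hz, hxU₁⟩
  have hC' : ∀ k, rs ((Scheme.Modules.pullback f).obj M) inf_le_left (pbRes f M hV (y k)) =
      comb (fun l => pbRes f M hW (e l)) le_rfl ((C.map (f.appLE U₁ _ hW)) k) := fun k => by
    rw [rs_pbRes, ← pbRes_rs f M hU₁ hW (y k), ← hC k, pbRes_comb f e le_rfl (C k) hW]
    rfl
  rw [← at_res y hU₁ hxU₁, ← funext hC, at_comb_iff he le_rfl C hxU₁,
    ← at_res (fun k => pbRes f M hV (y k)) inf_le_left hzW, funext hC',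
    at_comb_iff (he.pbRes f hW) le_rfl _ hzW]
  have hdet : (C.map (f.appLE U₁ _ hW)).det = f.appLE U₁ _ hW C.det :=
    (RingHom.map_det (f.appLE U₁ _ hW).hom C).symm
  rw [hdet]
  have hg : Y.presheaf.germ _ z hzW (f.appLE U₁ _ hW C.det) =
      f.stalkMap z (X.presheaf.germ U₁ (f z) hxU₁ C.det) := by
    rw [Scheme.Hom.germ_stalkMap_apply, Scheme.Hom.appLE]
    exact TopCat.Presheaf.germ_res_apply _ _ _ hzW _
  rw [hg, isUnit_map_iff]

end

end Groth.Agent.Lib.GrassGen.Frames
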