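import Groth.Agent.Lib.GrassGen.Sheaf
import Groth.Agent.Lib.GrassGen.AffineHom
import Groth.Agent.Lib.GrassGen.Frames
import Groth.Agent.Lib.GrassRep.Chart

/-!
# The universal quotient on a chart
-/

set_option autoImplicit false
set_option linter.style.haveILetI false
set_option backward.isDefEq.respectTransparency false
set_option backward.isDefEq.respectTransparency.types false
universe u

open CategoryTheory CategoryTheory.Limits AlgebraicGeometry Opposite TopologicalSpace
open ZarCoh.FlatBC.PullbackSections (pbRes)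

namespace Groth.Agent.Lib.GrassGen

noncomputable section

open Groth.Agent.Lib GrassRep.QuotBC
open Groth.Agent.Lib.TensorMod.Dual (rs rf rs_rs rs_self)
open Groth.Agent.Lib.Pinch.StalkFrame (IsFrame comb comb_injective comb_surjective)

variable {X : Scheme.{u}} {E : X.Modules} {r : ℕ} {U : X.Opens}

/-- The chart: frames given by sections `x` over the affine open. -/
def chart (hU : IsAffineOpen U) (x : Fin r → Γ(E, U)) : Over X :=
  Over.mk (Spec.map (CommRingCat.ofHom (algebraMap Γ(X, U) (GrassRep.S Γ(X, U) x))) ≫ hU.fromSpec)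

variable (hU : IsAffineOpen U) (x : Fin r → Γ(E, U))

theorem chart_le : (⊤ : (chart hU x).left.Opens) ≤ (chart hU x).hom ⁻¹ᵁ U := by
  rintro z -
  have : hU.fromSpec (Spec.map (CommRingCat.ofHom (algebraMap Γ(X, U) (GrassRep.S Γ(X, U) x))) z) ∈
      Set.range hU.fromSpec := ⟨_, rfl⟩
  rw [hU.range_fromSpec] at this
  exact this

/-- The ring of the chart as global functions. -/
def fn : GrassRep.S Γ(X, U) x →+* Γ((chart hU x).left, ⊤) :=
  (Scheme.ΓSpecIso (CommRingCat.of (GrassRep.S Γ(X, U) x))).inv.hom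

theorem fn_algebraMap (a : Γ(X, U)) :
    (chart hU x).hom.appLE U ⊤ (chart_le hU x) a = fn hU x (algebraMap Γ(X, U) (GrassRep.S Γ(X, U) x) a) := by
  have hρ : Spec.map (CommRingCat.ofHom (algebraMap Γ(X, U) (GrassRep.S Γ(X, U) x))) =
      AffineHom.fac (chart hU x).hom (chart_le hU x) := by
    rw [← cancel_mono hU.fromSpec, AffineHom.fac_fromSpec hU]
    rfl
  rw [← AffineHom.fac_appTop, ← hρ]
  exact congr($((Scheme.ΓSpecIso_inv_naturality
    (CommRingCat.ofHom (algebraMap Γ(X, U) (GrassRep.S Γ(X, U) x)))).symm) a)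

/-- The standard frame on the chart. -/
abbrev frame : Fin r → Γ(FlatMod.freeMod (chart hU x).left r, ⊤) :=
  Modules.Free.gen (chart hU x).left

theorem isFrame_gen (T : Scheme.{u}) :
    IsFrame (FlatMod.freeMod T r) ⊤ (Modules.Free.gen T : Fin r → _) := fun z _ => by
  have : (fun c : Fin r → T.presheaf.stalk z =>
      ∑ i, c i • (FlatMod.freeMod T r).presheaf.germ ⊤ z trivial (Modules.Free.gen T i)) =
      (Modules.FreeStalk.stalkBasis T r z).equivFun.symm := by
    funext c
    simp only [Module.Basis.equivFun_symm_apply, Modules.FreeStalk.stalkBasis_apply]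
  rw [this]
  exact (Modules.FreeStalk.stalkBasis T r z).equivFun.symm.bijective

theorem rank_free (T : Scheme.{u}) : FlatMod.IsFinLocFreeOfRank r (FlatMod.freeMod T r) :=
  fun _ => ⟨⊤, trivial, ⟨Modules.Free.restrictFreeIso (⊤ : T.Opens).ι r⟩⟩

/-- The coefficients of the universal quotient. -/
abbrev cf (m : Γ(E, U)) : Fin r → Γ((chart hU x).left, ⊤) := fun i => fn hU x (GrassRep.coord x i m)

theorem cf_self (k : Fin r) : cf hU x (x k) = Pi.single k 1 := by
  funext i
  have h : GrassRep.coord x i (x k) = (Pi.single k 1 : Fin r → GrassRep.S Γ(X, U) x) i :=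
    congrFun ((GrassRep.phiU Γ(X, U) x).2 k) i
  show fn hU x _ = _
  rw [h]
  rcases eq_or_ne i k with e | e
  · subst e; simp
  · simp [Pi.single_eq_of_ne e]

theorem comb_single {T : Scheme.{u}} {M : T.Modules} (e : Fin r → Γ(M, ⊤)) (k : Fin r) :
    comb e le_rfl (Pi.single k (1 : Γ(T, ⊤))) = e k := by
  rw [comb, Finset.sum_eq_single k]
  · rw [Pi.single_eq_same, one_smul, rs_self]
  · intro i _ hi
    rw [Pi.single_eq_of_ne hi, zero_smul]
  · simp

theorem comb_add' {T : Scheme.{u}} {M : T.Modules} (e : Fin r → Γ(M, ⊤)) (c c' : Fin r → Γ(T, ⊤)) :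
    comb e le_rfl (c + c') = comb e le_rfl c + comb e le_rfl c' := by
  simp only [comb, Pi.add_apply, add_smul, Finset.sum_add_distrib]

theorem comb_smul' {T : Scheme.{u}} {M : T.Modules} (e : Fin r → Γ(M, ⊤)) (a : Γ(T, ⊤)) (c : Fin r → Γ(T, ⊤)) :
    comb e le_rfl (a • c) = a • comb e le_rfl c := by
  simp only [comb, Pi.smul_apply, smul_eq_mul, mul_smul, Finset.smul_sum]

theorem exists_univ [E.IsQuasicoherent] :
    ∃ Ψ : (Scheme.Modules.pullback (chart hU x).hom).obj E ⟶ FlatMod.freeMod (chart hU x).left r,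
      ∀ m, Ψ.app ⊤ (pbRes (chart hU x).hom E (chart_le hU x) m) = comb (frame hU x) le_rfl (cf hU x m) := by
  refine AffineHom.exists_hom hU _ (chart_le hU x) E (fun m => comb (frame hU x) le_rfl (cf hU x m)) ?_ ?_
  · intro a b
    have : cf hU x (a + b) = cf hU x a + cf hU x b := funext fun i => by
      show fn hU x _ = fn hU x _ + fn hU x _
      rw [← map_add]
      exact congrArg _ (congrFun (map_add (GrassRep.phiU Γ(X, U) x).1 a b) i)
    rw [this, comb_add']
  · intro a m
    have : cf hU x (a • m) = (chart hU x).hom.appLE U ⊤ (chart_le hU x) a • cf hU x m := funext fun i => by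
      show fn hU x _ = _ * fn hU x _
      rw [fn_algebraMap, ← map_mul, ← Algebra.smul_def]
      exact congrArg _ (congrFun (map_smul (GrassRep.phiU Γ(X, U) x).1 a m) i)
    rw [this, comb_smul']

variable [E.IsQuasicoherent]

/-- The universal quotient on the chart. -/
def Ψ : (Scheme.Modules.pullback (chart hU x).hom).obj E ⟶ FlatMod.freeMod (chart hU x).left r :=
  (exists_univ hU x).choose

theorem Ψ_app (m : Γ(E, U)) :
    (Ψ hU x).app ⊤ (pbRes (chart hU x).hom E (chart_le hU x) m) = comb (frame hU x) le_rfl (cf hU x m) :=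
  (exists_univ hU x).choose_spec m

theorem Ψ_self (k : Fin r) :
    (Ψ hU x).app ⊤ (pbRes (chart hU x).hom E (chart_le hU x) (x k)) = frame hU x k := by
  rw [Ψ_app, cf_self, comb_single]

instance epi_Ψ : Epi (Ψ hU x) := Modules.LocalSections.epi_of_local fun V n p hp => by
  obtain ⟨c, hc⟩ := comb_surjective (isFrame_gen (chart hU x).left) (le_top (a := V)) n
  refine ⟨V, le_rfl, comb (fun k => pbRes (chart hU x).hom E (chart_le hU x) (x k)) le_top c, hp, ?_⟩
  rw [rs_self, ← hc, comb, comb, map_sum]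
  refine Finset.sum_congr rfl fun k _ => ?_
  rw [Scheme.Modules.Hom.app_smul, Modules.TensorSec.app_rs, Ψ_self]

/-- The universal class on the chart. -/
def univClass : (pre E r).obj (op (chart hU x)) := cls (Ψ hU x) (rank_free _)

variable {T : Over X} (h : T.left ⟶ (chart hU x).left) (hh : h ≫ (chart hU x).hom = T.hom)

/-- The value of a base change of the universal quotient. -/
theorem quotBC_Ψ_app (e : (⊤ : T.left.Opens) ≤ T.hom ⁻¹ᵁ U) (m : Γ(E, U)) :
    (Grass.quotBC hh (Ψ hU x)).app ⊤ (pbRes T.hom E e m) =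
      comb (fun k => pbRes h (FlatMod.freeMod (chart hU x).left r) (le_refl ⊤) (frame hU x k)) le_rfl
        (fun i => h.appTop (fn hU x (GrassRep.coord x i m))) := by
  have e1 : pbRes T.hom E e m = DescAlg.PbSec.R h hh E (le_refl ⊤)
      (pbRes (chart hU x).hom E (chart_le hU x) m) := (DescAlg.PbSec.R_pbRes h hh E _ _ m).symm
  rw [e1, quotBC_app, Ψ_app, Frames.pbRes_comb]
  refine congrArg (comb _ le_rfl) (funext fun i => ?_)
  exact congr($(Scheme.Hom.appLE_eq_app h (U := ⊤)) _)

end

end Groth.Agent.Lib.GrassGen
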