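import Groth.Agent.Lib.GrassGen.Charts

/-!
# Existence of Grassmannians of quotients of quasi-coherent modules
-/

set_option autoImplicit false
set_option linter.style.haveILetI false
universe u

open CategoryTheory CategoryTheory.Limits AlgebraicGeometry Opposite

namespace Groth.Agent.Lib.GrassGen

variable {X : Scheme.{u}}

/-- A Grassmannian of rank `r` quotients of a quasi-coherent module exists. -/
theorem exists_isGrass (E : X.Modules) [E.IsQuasicoherent] (r : ℕ) :
    ∃ (G : Scheme.{u}) (π : G ⟶ X) (Q : G.Modules) (q : (Scheme.Modules.pullback π).obj E ⟶ Q),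
      Grass.IsGrass π E r Q q := by
  obtain ⟨G, b, hb⟩ := exists_universal (E := E) (r := r)
  refine ⟨G.left, G.hom, _, quo b, rank_quo b, inferInstance, fun T g L hL s hs => ?_⟩
  obtain ⟨k, hk, huniq⟩ := hb (Over.mk g) (cls s hL)
  have key : ∀ (h : T ⟶ G.left) (hg : h ≫ G.hom = g),
      bc h hg b = cls s hL ↔ ∃ e : (Scheme.Modules.pullback h).obj _ ≅ L, Grass.quotBC hg (quo b) ≫ e.hom = s :=
    fun h hg => by
      haveI := epi_bc hg (quo b)
      exact cls_eq_iff (TensorMod.LocFree.rank_pullback h (rank_quo b)) hL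
  refine ⟨k.left, ⟨Over.w k, (key k.left (Over.w k)).1 hk⟩, ?_⟩
  rintro h ⟨hg, he⟩
  have := huniq (Over.homMk h hg) ((key h hg).2 he)
  exact congrArg CommaMorphism.left this

end Groth.Agent.Lib.GrassGen
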