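import Groth.Agent.Lib.GrassGen.Frames
import Groth.Agent.Lib.StalkLoc.Basic
import Groth.Agent.Lib.Modules.LocalSections
import Mathlib.RingTheory.LocalRing.Module

/-!
# Sections over an affine open give frames of quotients near every point
-/

set_option autoImplicit false
set_option linter.style.haveILetI false
universe u

open CategoryTheory CategoryTheory.Limits AlgebraicGeometry Opposite TopologicalSpace
open ZarCoh.FlatBC.PullbackSections (pbRes)
open scoped TensorProduct

namespace Groth.Agent.Lib.GrassGen.Span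

noncomputable section

open Groth.Agent.Lib DerivedOX.PullbackStalk
open Groth.Agent.Lib.Modules (StalkModule.stalkMapₗ)

variable {X T : Scheme.{u}} {E : X.Modules} {U : X.Opens}

/-- Pulled back sections over an affine open generate the stalks of the inverse image. -/
theorem span_germ_pbRes [E.IsQuasicoherent] (hU : IsAffineOpen U) (g : T ⟶ X) {V : T.Opens}
    (hV : V ≤ g ⁻¹ᵁ U) {p : T} (hp : p ∈ V) :
    Submodule.span (T.presheaf.stalk p) (Set.range fun m : Γ(E, U) =>
      ((Scheme.Modules.pullback g).obj E).presheaf.germ V p hp (pbRes g E hV m)) = ⊤ := by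
  rw [eq_top_iff]
  rintro v -
  letI : Algebra (X.presheaf.stalk (g.base p)) (T.presheaf.stalk p) := (g.stalkMap p).hom.toAlgebra
  let θ := ((comparison g p).app E).hom
  have hθ : Function.Bijective θ := ConcreteCategory.bijective_of_isIso ((comparison g p).app E)
  obtain ⟨w, rfl⟩ := hθ.2 v
  refine TensorProduct.induction_on w ?_ ?_ ?_
  · exact (map_zero θ).symm ▸ Submodule.zero_mem _
  · intro a z
    obtain ⟨f, t, hf, e⟩ := StalkLoc.Basic.exists_smul_eq_germ (M := E) hU (hV hp) z
    obtain ⟨c, hc⟩ := ((X.mem_basicOpen f (g.base p) (hV hp)).mp hf).exists_left_inv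
    have hz : z = c • E.presheaf.germ U (g.base p) (hV hp) t := by
      rw [← e, smul_smul, hc, one_smul]
    subst hz
    have h1 : ∀ (a : T.presheaf.stalk p) (n : E.presheaf.stalk (g.base p)), a ⊗ₜ[X.presheaf.stalk (g.base p)] (c • n) =
        ((g.stalkMap p).hom c * a) • ((1 : T.presheaf.stalk p) ⊗ₜ[X.presheaf.stalk (g.base p)] n) := fun a n => by
      refine ((TensorProduct.smul_tmul c a n).symm).trans ?_
      refine Eq.trans ?_ (TensorProduct.smul_tmul' ((g.stalkMap p).hom c * a) (1 : T.presheaf.stalk p) n).symm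
      rw [smul_eq_mul, mul_one]
      rfl
    erw [h1 a]
    refine (map_smul θ _ _).symm ▸ Submodule.smul_mem _ _ (Submodule.subset_span ⟨t, ?_⟩)
    refine Eq.symm ((comparison_one_tmul g p E _).trans ?_)
    refine (congrArg (pushStalkMap g p _) (Modules.StalkModule.stalkMapₗ_germ _ (U := U) (x := g.base p) (hV hp) t)).trans ?_
    refine (pushStalkMap_germ g p _ (hV hp) _).trans ?_
    exact (TopCat.Presheaf.germ_res_apply ((Scheme.Modules.pullback g).obj E).presheaf
      (homOfLE hV) p hp _).symm
  · intro a b ha hb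
    exact (map_add θ a b).symm ▸ add_mem ha hb

/-- The values of a quotient on pulled back sections generate the stalks. -/
theorem span_germ_app [E.IsQuasicoherent] (hU : IsAffineOpen U) (g : T ⟶ X) {L : T.Modules}
    (s : (Scheme.Modules.pullback g).obj E ⟶ L) [Epi s] {V : T.Opens}
    (hV : V ≤ g ⁻¹ᵁ U) {p : T} (hp : p ∈ V) :
    Submodule.span (T.presheaf.stalk p) (Set.range fun m : Γ(E, U) =>
      L.presheaf.germ V p hp (s.app V (pbRes g E hV m))) = ⊤ := by
  let σ := Modules.StalkModule.stalkMapₗ s p
  have hσ : Function.Surjective σ := (Modules.Stalk.epi_iff_stalk_surjective s).1 inferInstance p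
  have h : (fun m : Γ(E, U) => L.presheaf.germ V p hp (s.app V (pbRes g E hV m))) =
      σ ∘ fun m : Γ(E, U) => ((Scheme.Modules.pullback g).obj E).presheaf.germ V p hp (pbRes g E hV m) :=
    funext fun m => (Modules.StalkModule.stalkMapₗ_germ s hp _).symm
  rw [h, Set.range_comp, Submodule.span_image, span_germ_pbRes hU g hV hp, Submodule.map_top,
    LinearMap.range_eq_top.2 hσ]

/-- Some sections give a frame at the point. -/
theorem exists_at [E.IsQuasicoherent] {r : ℕ} (hU : IsAffineOpen U) (g : T ⟶ X) {L : T.Modules}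
    (hL : FlatMod.IsFinLocFreeOfRank r L)
    (s : (Scheme.Modules.pullback g).obj E ⟶ L) [Epi s] {V : T.Opens}
    (hV : V ≤ g ⁻¹ᵁ U) {p : T} (hp : p ∈ V) :
    ∃ x : Fin r → Γ(E, U), Frames.At (fun k => s.app V (pbRes g E hV (x k))) p hp := by
  obtain ⟨U₀, hpU₀, ⟨i⟩⟩ := hL p
  obtain ⟨e, he⟩ := Pinch.StalkFrame.exists_isFrame_of_iso i
  let b₀ : Module.Basis (Fin r) (T.presheaf.stalk p) (L.presheaf.stalk p) :=
    Module.Basis.ofEquivFun (LinearEquiv.ofBijective
      (Fintype.linearCombination (T.presheaf.stalk p) fun j => L.presheaf.germ U₀ p hpU₀ (e j)) (he p hpU₀)).symm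
  haveI : Module.Finite (T.presheaf.stalk p) (L.presheaf.stalk p) := Module.Finite.of_basis b₀
  haveI : Module.Free (T.presheaf.stalk p) (L.presheaf.stalk p) := Module.Free.of_basis b₀
  haveI : Module.FinitePresentation (T.presheaf.stalk p) (L.presheaf.stalk p) :=
    Module.finitePresentation_of_projective _ _
  obtain ⟨κ, a, b, hb⟩ := Module.exists_basis_of_span_of_flat _ (span_germ_app hU g s hV hp)
  haveI := Module.Finite.finite_basis b
  haveI := Fintype.ofFinite κ
  let ε : κ ≃ Fin r := b.indexEquiv b₀
  refine ⟨fun k => a (ε.symm k), ?_⟩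
  have h2 : ∀ k, (b.reindex ε) k = L.presheaf.germ V p hp (s.app V (pbRes g E hV (a (ε.symm k)))) := fun k => by
    rw [Module.Basis.reindex_apply]; exact hb _
  have h3 : (fun c : Fin r → T.presheaf.stalk p => ∑ k, c k • L.presheaf.germ V p hp (s.app V (pbRes g E hV (a (ε.symm k))))) =
      (b.reindex ε).equivFun.symm := by
    funext c
    simp only [Module.Basis.equivFun_symm_apply, h2]
  rw [Frames.At, h3]
  exact (b.reindex ε).equivFun.symm.bijective

end

end Groth.Agent.Lib.GrassGen.Span
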