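import Groth.Agent.Lib.GrassGen.Chart
import Groth.Agent.Lib.GrassGen.Span
import Groth.Agent.Lib.WeilRep.Charts

/-!
# The presheaf of quotients is covered by the charts; existence of the Grassmannian
-/

set_option autoImplicit false
set_option linter.style.haveILetI false
set_option backward.isDefEq.respectTransparency false
set_option backward.isDefEq.respectTransparency.types false
universe u

open CategoryTheory CategoryTheory.Limits AlgebraicGeometry Opposite TopologicalSpace
open ZarCoh.FlatBC.PullbackSections (pbRes)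

namespace Groth.Agent.Lib.GrassGen

noncomputable section

open Groth.Agent.Lib GrassRep.QuotBC WeilRep.Glue
open Groth.Agent.Lib.TensorMod.Dual (rs rf rs_rs rs_self)
open Groth.Agent.Lib.Pinch.StalkFrame (IsFrame comb comb_injective comb_surjective)

variable {X : Scheme.{u}} {E : X.Modules} {r : ℕ} {U : X.Opens}

/-- The values of a class on tautological sections. -/
def vals (x : Fin r → Γ(E, U)) {T : Scheme.{u}} {g : T ⟶ X} (a : Pt E r g) :
    Fin r → Γ(cokernel ((equivShrink _).symm a).1.arrow, g ⁻¹ᵁ U) :=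
  fun k => (quo a).app (g ⁻¹ᵁ U) (pbRes g E le_rfl (x k))

/-- The open of a chart. -/
def O (x : Fin r → Γ(E, U)) {T : Scheme.{u}} {g : T ⟶ X} (a : Pt E r g) : T.Opens :=
  Frames.locus (rank_quo a) (vals x a)

theorem at_vals_cls_iff (x : Fin r → Γ(E, U)) {T : Scheme.{u}} {g : T ⟶ X} {L : T.Modules}
    (s : (Scheme.Modules.pullback g).obj E ⟶ L) [Epi s] (hL : FlatMod.IsFinLocFreeOfRank r L) {p : T}
    (hp : p ∈ g ⁻¹ᵁ U) :
    Frames.At (vals x (cls s hL)) p hp ↔
      Frames.At (fun k => s.app (g ⁻¹ᵁ U) (pbRes g E le_rfl (x k))) p hp := by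
  obtain ⟨i, hi⟩ := exists_iso_quo s hL
  have h : (fun k => s.app (g ⁻¹ᵁ U) (pbRes g E le_rfl (x k))) =
      fun k => i.hom.app (g ⁻¹ᵁ U) (vals x (cls s hL) k) := funext fun k => by
    rw [vals, ← CategoryTheory.comp_apply, ← Scheme.Modules.Hom.comp_app, hi]
  rw [h, Frames.at_iso]

theorem O_bc (x : Fin r → Γ(E, U)) {T T' : Scheme.{u}} {h : T' ⟶ T} {g : T ⟶ X} {g' : T' ⟶ X}
    (hg : h ≫ g = g') (a : Pt E r g) : O x (bc h hg a) = h ⁻¹ᵁ O x a := by
  haveI := epi_bc hg (quo a)
  have e : g' ⁻¹ᵁ U ≤ h ⁻¹ᵁ (g ⁻¹ᵁ U) := by rw [← hg]; rfl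
  have key : ∀ k, (Grass.quotBC hg (quo a)).app (g' ⁻¹ᵁ U) (pbRes g' E le_rfl (x k)) =
      pbRes h _ e (vals x a k) := fun k => by
    rw [vals, ← quotBC_app hg (quo a) e, DescAlg.PbSec.R_pbRes]
  ext z
  constructor
  · rintro ⟨hz, hAt⟩
    refine ⟨e hz, ?_⟩
    have h1 := (at_vals_cls_iff x (Grass.quotBC hg (quo a)) (TensorMod.LocFree.rank_pullback h (rank_quo a)) hz).1 hAt
    rw [funext key] at h1
    exact (Frames.at_pbRes_iff (rank_quo a) h (vals x a) e hz).1 h1
  · rintro ⟨hz, hAt⟩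
    have hz' : z ∈ g' ⁻¹ᵁ U := by rw [← hg]; exact hz
    refine ⟨hz', (at_vals_cls_iff x (Grass.quotBC hg (quo a)) (TensorMod.LocFree.rank_pullback h (rank_quo a)) hz').2 ?_⟩
    rw [funext key]
    exact (Frames.at_pbRes_iff (rank_quo a) h (vals x a) e hz').2 hAt

variable [E.IsQuasicoherent] (hU : IsAffineOpen U) (x : Fin r → Γ(E, U))

theorem O_univClass : O x (g := (chart hU x).hom) (univClass hU x) = ⊤ := by
  refine top_le_iff.1 fun z _ => ⟨chart_le hU x (Set.mem_univ z), ?_⟩
  refine (at_vals_cls_iff x (Ψ hU x) (rank_free _) _).2 ?_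
  rw [← Frames.at_res _ (chart_le hU x) (x := z) trivial]
  have : (fun k => rs _ (chart_le hU x) ((Ψ hU x).app ((chart hU x).hom ⁻¹ᵁ U)
      (pbRes (chart hU x).hom E le_rfl (x k)))) = frame hU x := funext fun k => by
    rw [← Modules.TensorSec.app_rs, Pinch.StalkFrame.rs_pbRes, Ψ_self]
  rw [this]
  exact isFrame_gen _ z trivial

theorem isIso_of_frames {T : Scheme.{u}} {M N : T.Modules} (j : M ⟶ N) {e : Fin r → Γ(M, ⊤)}
    {e' : Fin r → Γ(N, ⊤)} (he : IsFrame M ⊤ e) (he' : IsFrame N ⊤ e') (hj : ∀ k, j.app ⊤ (e k) = e' k) :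
    IsIso j := by
  rw [Modules.Stalk.isIso_iff_stalk_bijective]
  intro z
  let σ := Modules.StalkModule.stalkMapₗ j z
  have h : (σ : _ → _) ∘ (fun c : Fin r → T.presheaf.stalk z => ∑ k, c k • M.presheaf.germ ⊤ z trivial (e k)) =
      fun c : Fin r → T.presheaf.stalk z => ∑ k, c k • N.presheaf.germ ⊤ z trivial (e' k) := by
    funext c
    simp only [Function.comp_apply, map_sum, map_smul, σ, Modules.StalkModule.stalkMapₗ_germ, hj]
  have hb : Function.Bijective (σ : _ → _) :=
    (Function.Bijective.of_comp_iff _ (he z trivial)).1 (h ▸ he' z trivial)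
  exact hb

theorem existsUnique_lift (T : Over X) (a : Pt E r T.hom) (ha : O x (g := T.hom) a = ⊤) :
    ∃! g : T ⟶ chart hU x, act (pre E r) g (univClass hU x) = a := by
  have e : (⊤ : T.left.Opens) ≤ T.hom ⁻¹ᵁ U := fun z _ => (ha.ge (Set.mem_univ z)).1
  let L := cokernel ((equivShrink (Qd E r T.hom)).symm a).1.arrow
  let q : (Scheme.Modules.pullback T.hom).obj E ⟶ L := quo a
  let y : Fin r → Γ(L, ⊤) := fun k => q.app ⊤ (pbRes T.hom E e (x k))
  have hy : IsFrame L ⊤ y := fun z hz => by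
    have h1 : Frames.At (vals x a) z (e hz) := (ha.ge (Set.mem_univ z)).2
    rw [← Frames.at_res (vals x a) e hz] at h1
    have h2 : (fun k => rs L e (vals x a k)) = y := funext fun k => by
      simp only [y, q, vals]
      rw [← Modules.TensorSec.app_rs, Pinch.StalkFrame.rs_pbRes]
    rw [h2] at h1
    exact h1
  choose c hc using fun m : Γ(E, U) => comb_surjective hy (le_refl ⊤) (q.app ⊤ (pbRes T.hom E e m))
  have hinj := comb_injective hy (le_refl ⊤)
  letI alg : Algebra Γ(X, U) Γ(T.left, ⊤) := (T.hom.appLE U ⊤ e).hom.toAlgebra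
  have cadd : ∀ m m', c (m + m') = c m + c m' := fun m m' => hinj (by
    rw [hc, comb_add', hc, hc, map_add, map_add])
  have csmul : ∀ (t : Γ(X, U)) m, c (t • m) = t • c m := fun t m => hinj (by
    rw [hc, show t • c m = T.hom.appLE U ⊤ e t • c m from funext fun i => Algebra.smul_def t (c m i),
      comb_smul', hc, ZarCoh.FlatBC.PullbackSections.pbRes_smul, Scheme.Modules.Hom.app_smul])
  have cself : ∀ k, c (x k) = Pi.single k 1 := fun k => hinj (by rw [hc, comb_single])
  let φ : GrassRep.Phi Γ(X, U) x Γ(T.left, ⊤) :=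
    ⟨{ toFun := c, map_add' := cadd, map_smul' := csmul }, fun j => cself j⟩
  let h : T.left ⟶ (chart hU x).left :=
    T.left.toSpecΓ ≫ Spec.map (CommRingCat.ofHom (GrassRep.liftS φ).toRingHom)
  have hh : h ≫ (chart hU x).hom = T.hom := by
    show (T.left.toSpecΓ ≫ _) ≫ Spec.map _ ≫ hU.fromSpec = T.hom
    rw [Category.assoc, ← Spec.map_comp_assoc, ← CommRingCat.ofHom_comp,
      show (GrassRep.liftS φ).toRingHom.comp (algebraMap Γ(X, U) (GrassRep.S Γ(X, U) x)) =
        (T.hom.appLE U ⊤ e).hom from (GrassRep.liftS φ).comp_algebraMap, CommRingCat.ofHom_hom,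
      ← Category.assoc]
    exact AffineHom.fac_fromSpec hU T.hom e
  have hfn : ∀ z, h.appTop (fn hU x z) = GrassRep.liftS φ z := fun z => by
    have : (Scheme.ΓSpecIso (CommRingCat.of (GrassRep.S Γ(X, U) x))).inv ≫ h.appTop =
        CommRingCat.ofHom (GrassRep.liftS φ).toRingHom := by
      rw [Scheme.Hom.comp_appTop, Scheme.toSpecΓ_appTop, ← Scheme.ΓSpecIso_inv_naturality_assoc,
        Iso.inv_hom_id, Category.comp_id]
    exact congr($this z)
  let ygen : Fin r → Γ((Scheme.Modules.pullback h).obj (FlatMod.freeMod (chart hU x).left r), ⊤) :=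
    fun k => pbRes h _ (le_refl ⊤) (frame hU x k)
  have hygen : IsFrame _ ⊤ ygen := (isFrame_gen (chart hU x).left).pbRes h (le_refl ⊤)
  obtain ⟨j, hj⟩ : ∃ j : (Scheme.Modules.pullback h).obj (FlatMod.freeMod (chart hU x).left r) ⟶ L,
      ∀ k, j.app ⊤ (ygen k) = y k := by
    refine ⟨((Scheme.Modules.pullbackPushforwardAdjunction h).homEquiv _ _).symm
      (Modules.Free.freeHom (M := (Scheme.Modules.pushforward h).obj L) y), fun k => ?_⟩
    have h1 := Modules.Free.freeHom_app_gen (M := (Scheme.Modules.pushforward h).obj L) y k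
    rw [← ((Scheme.Modules.pullbackPushforwardAdjunction h).homEquiv _ _).apply_symm_apply
      (Modules.Free.freeHom (M := (Scheme.Modules.pushforward h).obj L) y), Adjunction.homEquiv_unit] at h1
    refine Eq.trans (congrArg _ ?_) h1
    exact rs_self _ _ _
  haveI := isIso_of_frames j hygen hy hj
  refine ⟨Over.homMk h hh, ?_, fun g hg => ?_⟩
  · show bc h hh (cls (Ψ hU x) (rank_free _)) = a
    rw [bc_cls h hh _ _ (epi_bc hh _)]
    haveI := epi_bc hh (Ψ hU x)
    conv_rhs => rw [← cls_quo a]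
    refine (cls_eq_iff _ _).2 ⟨asIso j, AffineHom.hom_ext hU T.hom e E _ _ fun m => ?_⟩
    rw [Scheme.Modules.Hom.comp_app, CategoryTheory.comp_apply, quotBC_Ψ_app hU x h hh e m]
    refine Eq.trans ?_ (hc m)
    simp only [comb, map_sum]
    refine Finset.sum_congr rfl fun i _ => ?_
    rw [Scheme.Modules.Hom.app_smul, rs_self, rs_self, asIso_hom, hj, hfn, GrassRep.liftS_coord]
    rfl
  · haveI := epi_bc (Over.w g) (Ψ hU x)
    replace hg : bc g.left (Over.w g) (cls (Ψ hU x) (rank_free _)) = a := hg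
    rw [bc_cls g.left _ _ _ (epi_bc (Over.w g) _), ← cls_quo a, cls_eq_iff] at hg
    obtain ⟨i, hi⟩ := hg
    have key : ∀ m, comb (fun k => i.hom.app ⊤ (pbRes g.left (FlatMod.freeMod (chart hU x).left r) (le_refl ⊤)
        (frame hU x k))) le_rfl (fun l => g.left.appTop (fn hU x (GrassRep.coord x l m))) =
          q.app ⊤ (pbRes T.hom E e m) := fun m => by
      have h1 : (quo a).app ⊤ (pbRes T.hom E e m) = i.hom.app ⊤
          ((Grass.quotBC (Over.w g) (Ψ hU x)).app ⊤ (pbRes T.hom E e m)) := by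
        rw [← hi, Scheme.Modules.Hom.comp_app, CategoryTheory.comp_apply]
      rw [quotBC_Ψ_app hU x g.left (Over.w g) e m] at h1
      rw [show q.app ⊤ (pbRes T.hom E e m) = _ from h1]
      simp only [comb, map_sum, Scheme.Modules.Hom.app_smul, rs_self]
    have hyk : (fun k => i.hom.app ⊤ (pbRes g.left (FlatMod.freeMod (chart hU x).left r) (le_refl ⊤)
        (frame hU x k))) = y := funext fun k => by
      refine Eq.trans ?_ (key (x k))
      rw [show (fun l => g.left.appTop (fn hU x (GrassRep.coord x l (x k)))) = Pi.single k 1 from ?_,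
        comb_single]
      funext l
      have h2 : GrassRep.coord x l (x k) = (Pi.single k 1 : Fin r → GrassRep.S Γ(X, U) x) l :=
        congrFun ((GrassRep.phiU Γ(X, U) x).2 k) l
      rw [h2]
      rcases eq_or_ne l k with e | e
      · subst e; simp
      · simp [Pi.single_eq_of_ne e]
    refine Over.OverMorphism.ext ?_
    let ρ : CommRingCat.of (GrassRep.S Γ(X, U) x) ⟶ Γ(T.left, ⊤) :=
      (Scheme.ΓSpecIso (CommRingCat.of (GrassRep.S Γ(X, U) x))).inv ≫ g.left.appTop
    have hρ : ∀ t, ρ (algebraMap Γ(X, U) (GrassRep.S Γ(X, U) x) t) = T.hom.appLE U ⊤ e t := fun t => by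
      show g.left.appTop (fn hU x _) = _
      rw [← fn_algebraMap]
      have h3 : (chart hU x).hom.appLE U ⊤ (chart_le hU x) ≫ g.left.appLE ⊤ ⊤ le_rfl = T.hom.appLE U ⊤ e := by
        rw [Scheme.Hom.appLE_comp_appLE]
        congr 1
        exact Over.w g
      rw [← congr($h3 t), CategoryTheory.comp_apply]
      exact congr($((Scheme.Hom.appLE_eq_app g.left (U := ⊤)).symm) _)
    let ρ' : GrassRep.S Γ(X, U) x →ₐ[Γ(X, U)] Γ(T.left, ⊤) := { ρ.hom with commutes' := hρ }
    have hρ' : ρ' = GrassRep.liftS φ := GrassRep.algHom_ext_coord fun l m => by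
      rw [GrassRep.liftS_coord]
      refine congrFun (hinj (?_ : comb y le_rfl (fun l => g.left.appTop (fn hU x (GrassRep.coord x l m))) =
        comb y le_rfl (c m))) l
      rw [hc, ← hyk]
      exact key m
    haveI : IsAffine (chart hU x).left :=
      inferInstanceAs (IsAffine (Spec (CommRingCat.of (GrassRep.S Γ(X, U) x))))
    refine ext_of_isAffine (Y := (chart hU x).left) ?_
    refine (cancel_epi (Scheme.ΓSpecIso (CommRingCat.of (GrassRep.S Γ(X, U) x))).inv).1 ?_
    ext z
    exact (AlgHom.congr_fun hρ' z).trans (hfn z).symm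

variable (E r) in
/-- The presheaf of rank `r` quotients of a quasi-coherent module is representable. -/
theorem isRepresentable : (pre E r).IsRepresentable := by
  refine WeilRep.Charts.isRepresentable_of_charts (pre E r) (isZSheaf E r)
    (ι := Σ U : X.affineOpens, Fin r → Γ(E, U.1)) (fun i => chart i.1.2 i.2) (fun i => univClass i.1.2 i.2)
    (fun i T a => O i.2 (g := T.hom) a) (fun i T T' g a => O_bc i.2 (Over.w g) a)
    (fun i => O_univClass i.1.2 i.2) (fun i T a ha => existsUnique_lift i.1.2 i.2 T a ha) ?_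
  intro T a p
  obtain ⟨V, hV, hxV, -⟩ := exists_isAffineOpen_mem_and_subset (X := X) (x := T.hom p) (U := ⊤) trivial
  obtain ⟨x, hx⟩ := Span.exists_at hV T.hom (rank_quo a) (quo a) (le_refl (T.hom ⁻¹ᵁ V)) (p := p) hxV
  exact ⟨⟨⟨V, hV⟩, x⟩, hxV, hx⟩

/-- A universal quotient exists. -/
theorem exists_universal :
    ∃ (G : Over X) (b : Pt E r G.hom), ∀ (T : Over X) (a : Pt E r T.hom),
      ∃! g : T ⟶ G, bc g.left (Over.w g) b = a := by
  haveI := isRepresentable E r
  obtain ⟨G, ⟨R⟩⟩ := Functor.IsRepresentable.has_representation (F := pre E r)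
  refine ⟨G, R.homEquiv (𝟙 G), fun T a => ?_⟩
  have key : ∀ g : T ⟶ G, R.homEquiv g = bc g.left (Over.w g) (R.homEquiv (𝟙 G)) := fun g => by
    conv_lhs => rw [← Category.comp_id g, R.homEquiv_comp]
    rfl
  exact ⟨R.homEquiv.symm a, (key _).symm.trans (R.homEquiv.apply_symm_apply a),
    fun g hg => R.homEquiv.injective (((key g).trans hg).trans (R.homEquiv.apply_symm_apply a).symm)⟩

end

end Groth.Agent.Lib.GrassGen
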