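import Groth.Agent.Lib.GrassRep.QuotBC
import Groth.Agent.Lib.TensorMod.LocFree
import Groth.Agent.Lib.DerivedOX.Grothendieck
import Mathlib.CategoryTheory.Subobject.WellPowered
import Mathlib.CategoryTheory.Abelian.GrothendieckCategory.Basic
import Mathlib.Logic.Small.Defs

/-!
# Classes of quotients of inverse images, as a presheaf on schemes over the base
-/

set_option autoImplicit false
set_option linter.style.haveILetI false
universe u

open CategoryTheory CategoryTheory.Limits AlgebraicGeometry Opposite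

namespace Groth.Agent.Lib.GrassGen

noncomputable section

open Groth.Agent.Lib GrassRep.QuotBC

variable {X : Scheme.{u}} (E : X.Modules) (r : ℕ)

/-- Kernels of rank `r` quotients of an inverse image. -/
abbrev Qd {T : Scheme.{u}} (g : T ⟶ X) : Type (u + 1) :=
  {K : Subobject ((Scheme.Modules.pullback g).obj E) // FlatMod.IsFinLocFreeOfRank r (cokernel K.arrow)}

instance small_Qd {T : Scheme.{u}} (g : T ⟶ X) : Small.{u} (Qd E r g) :=
  small_of_injective Subtype.val_injective

/-- The small type of classes. -/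
abbrev Pt {T : Scheme.{u}} (g : T ⟶ X) : Type u := Shrink.{u} (Qd E r g)

variable {E r}

section

variable {T : Scheme.{u}} {g : T ⟶ X} {L : T.Modules}

/-- The cokernel of the kernel of an epimorphism. -/
def cokerIso (s : (Scheme.Modules.pullback g).obj E ⟶ L) [Epi s] : cokernel (kernelSubobject s).arrow ≅ L :=
  IsColimit.coconePointUniqueUpToIso (cokernelIsCokernel _)
    (CokernelCofork.IsColimit.ofπ' s (kernelSubobject_arrow_comp s) fun {Z} a ha => by
      refine ⟨Abelian.epiDesc s a ?_, Abelian.comp_epiDesc _ _ _⟩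
      rw [← kernelSubobject_arrow' s, Category.assoc, ha, comp_zero])

theorem π_cokerIso (s : (Scheme.Modules.pullback g).obj E ⟶ L) [Epi s] :
    cokernel.π (kernelSubobject s).arrow ≫ (cokerIso s).hom = s :=
  IsColimit.comp_coconePointUniqueUpToIso_hom (cokernelIsCokernel _) _ WalkingParallelPair.one

/-- The class of a quotient. -/
def cls (s : (Scheme.Modules.pullback g).obj E ⟶ L) [Epi s] (hL : FlatMod.IsFinLocFreeOfRank r L) : Pt E r g :=
  equivShrink _ ⟨kernelSubobject s, TensorMod.LocFree.rank_of_iso (cokerIso s).symm hL⟩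

/-- The quotient of a class. -/
abbrev quo (a : Pt E r g) : (Scheme.Modules.pullback g).obj E ⟶ cokernel ((equivShrink _).symm a).1.arrow :=
  cokernel.π _

theorem rank_quo (a : Pt E r g) : FlatMod.IsFinLocFreeOfRank r (cokernel ((equivShrink _).symm a).1.arrow) :=
  ((equivShrink (Qd E r g)).symm a).2

theorem cls_quo (a : Pt E r g) : cls (quo a) (rank_quo a) = a := by
  apply (equivShrink (Qd E r g)).symm.injective
  rw [cls, Equiv.symm_apply_apply]
  refine Subtype.ext ?_
  set K := ((equivShrink (Qd E r g)).symm a).1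
  refine le_antisymm ?_ (le_kernelSubobject _ _ (cokernel.condition _))
  exact Subobject.le_of_comm (Abelian.monoLift K.arrow (kernelSubobject (cokernel.π K.arrow)).arrow
    (kernelSubobject_arrow_comp _)) (Abelian.monoLift_comp _ _ _)

theorem cls_eq_iff {L' : T.Modules} {s : (Scheme.Modules.pullback g).obj E ⟶ L}
    {s' : (Scheme.Modules.pullback g).obj E ⟶ L'} [Epi s] [Epi s'] (hL : FlatMod.IsFinLocFreeOfRank r L)
    (hL' : FlatMod.IsFinLocFreeOfRank r L') : cls s hL = cls s' hL' ↔ ∃ i : L ≅ L', s ≫ i.hom = s' := by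
  constructor
  · intro h
    have h1 : kernelSubobject s = kernelSubobject s' :=
      congrArg Subtype.val ((equivShrink (Qd E r g)).injective h)
    have h2 : ∀ {K K' : Subobject ((Scheme.Modules.pullback g).obj E)} (_ : K = K'),
        ∃ i : cokernel K.arrow ≅ cokernel K'.arrow, cokernel.π K.arrow ≫ i.hom = cokernel.π K'.arrow := by
      intro K K' e; subst e; exact ⟨Iso.refl _, Category.comp_id _⟩
    obtain ⟨i, hi⟩ := h2 h1
    refine ⟨(cokerIso s).symm ≪≫ i ≪≫ cokerIso s', ?_⟩
    conv_lhs => arg 1; rw [← π_cokerIso s]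
    simp only [Iso.trans_hom, Iso.symm_hom, Category.assoc, Iso.hom_inv_id_assoc]
    rw [← Category.assoc, hi, π_cokerIso]
  · rintro ⟨i, rfl⟩
    refine congrArg (equivShrink (Qd E r g)) (Subtype.ext ?_)
    exact (kernelSubobject_comp_mono s i.hom).symm

theorem exists_iso_quo (s : (Scheme.Modules.pullback g).obj E ⟶ L) [Epi s] (hL : FlatMod.IsFinLocFreeOfRank r L) :
    ∃ i : cokernel ((equivShrink _).symm (cls s hL)).1.arrow ≅ L, quo (cls s hL) ≫ i.hom = s :=
  (cls_eq_iff _ hL).1 (cls_quo (cls s hL))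

end

theorem epi_bc {T T' : Scheme.{u}} {h : T' ⟶ T} {g : T ⟶ X} {g' : T' ⟶ X} (hg : h ≫ g = g') {L : T.Modules}
    (s : (Scheme.Modules.pullback g).obj E ⟶ L) [Epi s] : Epi (Grass.quotBC hg s) :=
  epi_quotBC hg

/-- Base change of classes. -/
def bc {T T' : Scheme.{u}} (h : T' ⟶ T) {g : T ⟶ X} {g' : T' ⟶ X} (hg : h ≫ g = g') (a : Pt E r g) : Pt E r g' :=
  haveI := epi_bc hg (quo a)
  cls (Grass.quotBC hg (quo a)) (TensorMod.LocFree.rank_pullback h (rank_quo a))

theorem bc_cls {T T' : Scheme.{u}} (h : T' ⟶ T) {g : T ⟶ X} {g' : T' ⟶ X} (hg : h ≫ g = g') {L : T.Modules}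
    (s : (Scheme.Modules.pullback g).obj E ⟶ L) [Epi s] (hL : FlatMod.IsFinLocFreeOfRank r L)
    (hE : Epi (Grass.quotBC hg s)) :
    bc h hg (cls s hL) = cls (Grass.quotBC hg s) (TensorMod.LocFree.rank_pullback h hL) := by
  obtain ⟨i, hi⟩ := exists_iso_quo s hL
  haveI := epi_bc hg (quo (cls s hL))
  refine (cls_eq_iff _ _).2 ⟨(Scheme.Modules.pullback h).mapIso i, ?_⟩
  rw [quotBC_eq, quotBC_eq, Category.assoc, Functor.mapIso_hom, ← Functor.map_comp, hi]

theorem bc_id {T : Scheme.{u}} {g : T ⟶ X} (a : Pt E r g) : bc (𝟙 T) (Category.id_comp g) a = a := by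
  obtain ⟨e, he⟩ := quotBC_id g E (quo a)
  haveI := epi_bc (Category.id_comp g) (quo a)
  conv_rhs => rw [← cls_quo a]
  exact (cls_eq_iff _ _).2 ⟨e, he⟩

theorem bc_comp {T T' T'' : Scheme.{u}} (k : T'' ⟶ T') (h : T' ⟶ T) {g : T ⟶ X} {g' : T' ⟶ X} {g'' : T'' ⟶ X}
    (hg : h ≫ g = g') (hg' : k ≫ g' = g'') (hgg : (k ≫ h) ≫ g = g'') (a : Pt E r g) :
    bc (k ≫ h) hgg a = bc k hg' (bc h hg a) := by
  subst hg'
  haveI := epi_bc hgg (quo a)
  haveI := epi_bc hg (quo a)
  rw [show bc h hg a = cls (Grass.quotBC hg (quo a)) (TensorMod.LocFree.rank_pullback h (rank_quo a)) from rfl,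
    bc_cls k rfl _ _ (epi_bc rfl _)]
  haveI := epi_bc (rfl : k ≫ g' = k ≫ g') (Grass.quotBC hg (quo a))
  refine (cls_eq_iff _ _).2 ⟨((Scheme.Modules.pullbackComp k h).app _).symm, ?_⟩
  rw [Iso.symm_hom, Iso.app_inv, quotBC_comp k hg hgg (quo a), quotBC_eq (rfl : k ≫ g' = k ≫ g'), unfoldIso]
  simp [Scheme.Modules.pullbackCongr]

variable (E r) in
/-- The presheaf of rank `r` quotients. -/
def pre : (Over X)ᵒᵖ ⥤ Type u where
  obj T := Pt E r T.unop.hom
  map {T T'} h := ↾(bc h.unop.left (Over.w h.unop))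
  map_id T := ConcreteCategory.hom_ext _ _ fun a => bc_id a
  map_comp {T T' T''} h h' := ConcreteCategory.hom_ext _ _ fun a => bc_comp h'.unop.left h.unop.left _ _ _ a

end

end Groth.Agent.Lib.GrassGen
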