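import Groth.Agent.Lib.GrassGen.Charts
import Groth.Agent.Lib.Modules.AffineHom
import Groth.Prelude.Def_ExtPow2

/-!
# Determinants of quotient maps in a frame
-/

set_option autoImplicit false
set_option linter.style.haveILetI false
set_option backward.isDefEq.respectTransparency false
set_option backward.isDefEq.respectTransparency.types false
universe u

open CategoryTheory CategoryTheory.Limits AlgebraicGeometry Opposite TopologicalSpace
open ZarCoh.FlatBC.PullbackSections (pbRes)

namespace Groth.Agent.Lib.GrassGen.Det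

noncomputable section

open Groth.Agent.Lib GrassRep.QuotBC
open Groth.Agent.Lib.TensorMod.Dual (rs rf rs_rs rs_self rs_smul rf_self)
open Groth.Agent.Lib.Modules.TensorSec (app_rs)
open Groth.Agent.Lib.Pinch.StalkFrame (IsFrame comb comb_injective comb_surjective rs_comb rs_pbRes pbRes_rs)

variable {X : Scheme.{u}} {V L : X.Modules} {q : ℕ}
  (φ : ∀ U : X.affineOpens, Γ(L, U.1) ≃ₗ[Γ(X, U.1)] ↥(⋀[Γ(X, U.1)]^q Γ(V, U.1)))
  (hφ : ∀ (U U' : X.affineOpens) (h : U'.1 ≤ U.1) (e : Fin q → Γ(V, U.1)),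
    rs L h ((φ U).symm (exteriorPower.ιMulti _ q e)) =
      (φ U').symm (exteriorPower.ιMulti _ q fun j => rs V h (e j)))

/-- The decomposable section of `L` attached to a tuple. -/
abbrev dec (U : X.affineOpens) (e : Fin q → Γ(V, U.1)) : Γ(L, U.1) :=
  (φ U).symm (exteriorPower.ιMulti _ q e)

variable {T : Scheme.{u}} {g : T ⟶ X}

/-- Morphisms out of `g^* L` are determined on pulled back decomposable sections. -/
theorem hom_ext_dec {N : T.Modules} (a b : (Scheme.Modules.pullback g).obj L ⟶ N)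
    (h : ∀ (U : X.affineOpens) (e : Fin q → Γ(V, U.1)),
      a.app (g ⁻¹ᵁ U.1) (pbRes g L le_rfl (dec φ U e)) = b.app (g ⁻¹ᵁ U.1) (pbRes g L le_rfl (dec φ U e))) :
    a = b := by
  apply ((Scheme.Modules.pullbackPushforwardAdjunction g).homEquiv L N).injective
  refine Modules.AffineHom.hom_ext_affine fun U l => ?_
  obtain ⟨t, rfl⟩ := (φ U).symm.surjective l
  have ht : t ∈ Submodule.span Γ(X, U.1) (Set.range (exteriorPower.ιMulti Γ(X, U.1) q (M := Γ(V, U.1)))) := by
    rw [exteriorPower.ιMulti_span]; trivial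
  induction ht using Submodule.span_induction with
  | mem t ht =>
    obtain ⟨e, rfl⟩ := ht
    have := h U e
    rw [show pbRes g L (le_refl (g ⁻¹ᵁ U.1)) (dec φ U e) =
      ((Scheme.Modules.pullbackPushforwardAdjunction g).unit.app L).app U.1 (dec φ U e) from rs_self _ _ _] at this
    rw [Adjunction.homEquiv_unit, Adjunction.homEquiv_unit]
    exact this
  | zero => simp only [map_zero]
  | add s t _ _ hs ht => simp only [map_add, hs, ht]
  | smul r t _ ht => simp only [map_smul, Scheme.Modules.Hom.app_smul, ht]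

variable {Q : T.Modules} (s : (Scheme.Modules.pullback g).obj V ⟶ Q) {y : Fin q → Γ(Q, ⊤)}
  (hy : IsFrame Q ⊤ y)

/-- The coefficients of the value of the quotient map on a pulled back section. -/
def co (U : X.Opens) {W : T.Opens} (hW : W ≤ g ⁻¹ᵁ U) (m : Γ(V, U)) : Fin q → Γ(T, W) :=
  (comb_surjective hy (le_top (a := W)) (s.app W (pbRes g V hW m))).choose

theorem comb_co (U : X.Opens) {W : T.Opens} (hW : W ≤ g ⁻¹ᵁ U) (m : Γ(V, U)) :
    comb y le_top (co s hy U hW m) = s.app W (pbRes g V hW m) :=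
  (comb_surjective hy (le_top (a := W)) (s.app W (pbRes g V hW m))).choose_spec

theorem co_add (U : X.Opens) {W : T.Opens} (hW : W ≤ g ⁻¹ᵁ U) (m m' : Γ(V, U)) :
    co s hy U hW (m + m') = co s hy U hW m + co s hy U hW m' := comb_injective hy le_top (by
  show comb y le_top (co s hy U hW (m + m')) = comb y le_top (co s hy U hW m + co s hy U hW m')
  rw [comb_co, map_add, map_add, ← comb_co s hy U hW m, ← comb_co s hy U hW m']
  simp only [comb, Pi.add_apply, add_smul, Finset.sum_add_distrib])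

theorem co_smul (U : X.Opens) {W : T.Opens} (hW : W ≤ g ⁻¹ᵁ U) (r : Γ(X, U)) (m : Γ(V, U)) :
    co s hy U hW (r • m) = g.appLE U W hW r • co s hy U hW m := comb_injective hy le_top (by
  show comb y le_top (co s hy U hW (r • m)) = comb y le_top (g.appLE U W hW r • co s hy U hW m)
  rw [comb_co, ZarCoh.FlatBC.PullbackSections.pbRes_smul, Scheme.Modules.Hom.app_smul, ← comb_co s hy U hW m]
  simp only [comb, Pi.smul_apply, smul_eq_mul, mul_smul, Finset.smul_sum])

/-- The determinant of the values of a tuple. -/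
def detCo (U : X.affineOpens) :
    Γ(V, U.1) [⋀^Fin q]→ₗ[Γ(X, U.1)]
      Γ((Scheme.Modules.pushforward g).obj (FlatMod.freeMod T 1), U.1) where
  toFun e := ((Matrix.of fun j => co s hy U.1 (le_refl (g ⁻¹ᵁ U.1)) (e j)).det •
    rs (FlatMod.freeMod T 1) (le_top (a := g ⁻¹ᵁ U.1)) (Modules.Free.gen T 0) :
      Γ(FlatMod.freeMod T 1, g ⁻¹ᵁ U.1))
  map_update_add' {dec} e j v w := by
    obtain rfl : dec = instDecidableEqFin q := Subsingleton.elim _ _
    have h : ∀ v, (Matrix.of fun i => co s hy U.1 (le_refl (g ⁻¹ᵁ U.1)) (Function.update e j v i)) =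
        (Matrix.of fun i => co s hy U.1 (le_refl (g ⁻¹ᵁ U.1)) (e i)).updateRow j (co s hy U.1 le_rfl v) := fun v => by
      ext i k
      rcases eq_or_ne i j with h | h
      · subst h; simp
      · simp [Matrix.updateRow_ne h, Function.update_of_ne h]
    show (_ : Γ(FlatMod.freeMod T 1, g ⁻¹ᵁ U.1)) = _
    erw [h, h, h, co_add, Matrix.det_updateRow_add, add_smul]
  map_update_smul' {dec} e j r v := by
    obtain rfl : dec = instDecidableEqFin q := Subsingleton.elim _ _
    have h : ∀ v, (Matrix.of fun i => co s hy U.1 (le_refl (g ⁻¹ᵁ U.1)) (Function.update e j v i)) =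
        (Matrix.of fun i => co s hy U.1 (le_refl (g ⁻¹ᵁ U.1)) (e i)).updateRow j (co s hy U.1 le_rfl v) := fun v => by
      ext i k
      rcases eq_or_ne i j with h | h
      · subst h; simp
      · simp [Matrix.updateRow_ne h, Function.update_of_ne h]
    show (_ : Γ(FlatMod.freeMod T 1, g ⁻¹ᵁ U.1)) = _
    erw [h, h, co_smul, Matrix.det_updateRow_smul, ← Scheme.Hom.app_eq_appLE, mul_smul]
    rfl
  map_eq_zero_of_eq' e i j h hij := by
    show (_ : Γ(FlatMod.freeMod T 1, g ⁻¹ᵁ U.1)) = _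
    erw [Matrix.det_zero_of_row_eq hij (funext fun k => by simp [h]), zero_smul]

theorem rf_det {W W' : T.Opens} (h : W' ≤ W) (C : Matrix (Fin q) (Fin q) Γ(T, W)) :
    rf h C.det = (C.map (rf h)).det :=
  RingHom.map_det (T.presheaf.map (homOfLE h).op).hom C

theorem rf_co (U : X.Opens) {W W' : T.Opens} (hW : W ≤ g ⁻¹ᵁ U) (h : W' ≤ W) (m : Γ(V, U)) :
    (fun i => rf h (co s hy U hW m i)) = co s hy U (h.trans hW) m := comb_injective hy le_top (by
  show comb y le_top (fun i => rf h (co s hy U hW m i)) = comb y le_top (co s hy U (h.trans hW) m)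
  rw [← rs_comb y le_top h, comb_co, comb_co, ← app_rs, rs_pbRes])

theorem co_rs (U U' : X.Opens) (hU : U' ≤ U) {W : T.Opens} (hW : W ≤ g ⁻¹ᵁ U') (m : Γ(V, U)) :
    co s hy U' hW (rs V hU m) = co s hy U (hW.trans (g.preimage_mono hU)) m := comb_injective hy le_top (by
  show comb y le_top (co s hy U' hW (rs V hU m)) = comb y le_top (co s hy U _ m)
  rw [comb_co, comb_co, pbRes_rs])

include hφ in
theorem exists_det : ∃ Φ : (Scheme.Modules.pullback g).obj L ⟶ FlatMod.freeMod T 1,
    ∀ (U : X.affineOpens) (e : Fin q → Γ(V, U.1)) (W : T.Opens) (hW : W ≤ g ⁻¹ᵁ U.1),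
      Φ.app W (pbRes g L hW (dec φ U e)) = (Matrix.of fun j => co s hy U.1 hW (e j)).det •
        rs (FlatMod.freeMod T 1) (le_top (a := W)) (Modules.Free.gen T 0) := by
  let N := (Scheme.Modules.pushforward g).obj (FlatMod.freeMod T 1)
  let F : ∀ U : X.affineOpens, Γ(L, U.1) →ₗ[Γ(X, U.1)] Γ(N, U.1) := fun U =>
    exteriorPower.alternatingMapLinearEquiv (detCo s hy U) ∘ₗ (φ U).toLinearMap
  have hF : ∀ (U : X.affineOpens) e, F U (dec φ U e) = detCo s hy U e := fun U e => by
    simp only [F, dec, LinearMap.comp_apply, LinearEquiv.coe_coe, LinearEquiv.apply_symm_apply,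
      exteriorPower.alternatingMapLinearEquiv_apply_ιMulti]
    rfl
  have hdet : ∀ (U U' : X.affineOpens) (h : U'.1 ≤ U.1) (e : Fin q → Γ(V, U.1)),
      rs N h (detCo s hy U e) = detCo s hy U' fun j => rs V h (e j) := fun U U' h e => by
    show rs (FlatMod.freeMod T 1) (g.preimage_mono h) ((Matrix.of fun j => co s hy U.1 (le_refl (g ⁻¹ᵁ U.1)) (e j)).det •
        rs (FlatMod.freeMod T 1) (le_top (a := g ⁻¹ᵁ U.1)) (Modules.Free.gen T 0)) =
      (Matrix.of fun j => co s hy U'.1 (le_refl (g ⁻¹ᵁ U'.1)) (rs V h (e j))).det •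
        rs (FlatMod.freeMod T 1) (le_top (a := g ⁻¹ᵁ U'.1)) (Modules.Free.gen T 0)
    rw [rs_smul, rs_rs, rf_det]
    congr 2
    ext j i
    show rf (g.preimage_mono h) (co s hy U.1 le_rfl (e j) i) = co s hy U'.1 le_rfl (rs V h (e j)) i
    rw [co_rs, ← rf_co s hy U.1 (le_refl (g ⁻¹ᵁ U.1)) (g.preimage_mono h)]
  obtain ⟨ψ, hψ⟩ := Modules.AffineHom.exists_hom_of_affine (M := L) (N := N) F fun U U' h l => by
    obtain ⟨t, rfl⟩ := (φ U).symm.surjective l
    have ht : t ∈ Submodule.span Γ(X, U.1) (Set.range (exteriorPower.ιMulti Γ(X, U.1) q (M := Γ(V, U.1)))) := by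
      rw [exteriorPower.ιMulti_span]; trivial
    induction ht using Submodule.span_induction with
    | mem t ht =>
      obtain ⟨e, rfl⟩ := ht
      rw [hF, hφ U U' h e, hF, hdet]
    | zero => simp only [map_zero, Modules.TensorSec.rs_zero]
    | add a b _ _ ha hb => simp only [map_add, Modules.TensorSec.rs_add, ha, hb]
    | smul r b _ hb => simp only [map_smul, rs_smul, hb]
  refine ⟨((Scheme.Modules.pullbackPushforwardAdjunction g).homEquiv _ _).symm ψ, fun U e W hW => ?_⟩
  have h1 : ((Scheme.Modules.pullbackPushforwardAdjunction g).homEquiv _ _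
      (((Scheme.Modules.pullbackPushforwardAdjunction g).homEquiv _ _).symm ψ)).app U.1 (dec φ U e) =
      detCo s hy U e := by
    rw [Equiv.apply_symm_apply, hψ, hF]
  rw [Adjunction.homEquiv_unit] at h1
  have h2 : rs (FlatMod.freeMod T 1) hW _ = rs (FlatMod.freeMod T 1) hW _ := congrArg (rs (FlatMod.freeMod T 1) hW) h1
  refine Eq.trans ((congrArg _ (?_ : _ = rs _ hW _)).trans (app_rs _ hW _)) (h2.trans ?_)
  · rfl
  · show rs (FlatMod.freeMod T 1) hW ((Matrix.of fun j => co s hy U.1 (le_refl (g ⁻¹ᵁ U.1)) (e j)).det •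
        rs (FlatMod.freeMod T 1) (le_top (a := g ⁻¹ᵁ U.1)) (Modules.Free.gen T 0)) = _
    rw [rs_smul, rs_rs, rf_det]
    congr 2
    ext j i
    exact congrFun (rf_co s hy U.1 (le_refl (g ⁻¹ᵁ U.1)) hW (e j)) i

/-- The determinant morphism. -/
def Φ : (Scheme.Modules.pullback g).obj L ⟶ FlatMod.freeMod T 1 := (exists_det φ hφ s hy).choose

/-- The value of the determinant morphism, from any coefficient matrix. -/
theorem Φ_app (U : X.affineOpens) (e : Fin q → Γ(V, U.1)) {W : T.Opens} (hW : W ≤ g ⁻¹ᵁ U.1)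
    (C : Matrix (Fin q) (Fin q) Γ(T, W)) (hC : ∀ j, comb y le_top (C j) = s.app W (pbRes g V hW (e j))) :
    (Φ φ hφ s hy).app W (pbRes g L hW (dec φ U e)) =
      C.det • rs (FlatMod.freeMod T 1) (le_top (a := W)) (Modules.Free.gen T 0) := by
  rw [Φ, (exists_det φ hφ s hy).choose_spec U e W hW]
  congr 2
  ext j i
  exact congrFun (comb_injective hy le_top ((comb_co s hy U.1 hW (e j)).trans (hC j).symm)) i

end

end Groth.Agent.Lib.GrassGen.Det
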