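import Groth.Agent.Lib.GrassGen.Plucker
import Mathlib.AlgebraicGeometry.Morphisms.ClosedImmersion

/-!
# The Plücker morphism is a closed immersion
-/

set_option autoImplicit false
set_option linter.style.haveILetI false
set_option backward.isDefEq.respectTransparency false
set_option backward.isDefEq.respectTransparency.types false
universe u

open CategoryTheory CategoryTheory.Limits AlgebraicGeometry Opposite TopologicalSpace
open ZarCoh.FlatBC.PullbackSections (pbRes)

namespace Groth.Agent.Lib.GrassGen.Embed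

noncomputable section

open Groth.Agent.Lib GrassRep.QuotBC WeilRep.Glue Plucker
open Groth.Agent.Lib.TensorMod.Dual (rs rf rs_rs rs_self)
open Groth.Agent.Lib.Pinch.StalkFrame (IsFrame comb comb_injective comb_surjective rs_comb rs_pbRes)
open Det (dec Φ Φ_app)

variable {X : Scheme.{u}} {E : X.Modules} {r : ℕ}

/-- The universal property of a class. -/
def IsUniv (G : Over X) (b : Pt E r G.hom) : Prop :=
  ∀ (T : Over X) (a : Pt E r T.hom), ∃! g : T ⟶ G, bc g.left (Over.w g) b = a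

theorem le_preimage_of_O_top {U : X.Opens} {x : Fin r → Γ(E, U)} {T : Scheme.{u}} {g : T ⟶ X} {a : Pt E r g}
    (ha : O x a = ⊤) : (⊤ : T.Opens) ≤ g ⁻¹ᵁ U := fun z _ => (ha.ge (Set.mem_univ z)).1

theorem isFrame_fr {U : X.Opens} {x : Fin r → Γ(E, U)} {T : Scheme.{u}} {g : T ⟶ X} [E.IsQuasicoherent]
    {a : Pt E r g} (ha : O x a = ⊤) : IsFrame _ ⊤ (fr x a ha) := fun z hz => by
  have e := le_preimage_of_O_top ha
  have h1 : Frames.At (vals x a) z (e hz) := (ha.ge (Set.mem_univ z)).2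
  rw [← Frames.at_res (vals x a) e hz] at h1
  have h2 : (fun k => rs _ e (vals x a k)) = fr x a ha := funext fun k => by
    simp only [fr, vals]
    rw [← Modules.TensorSec.app_rs, rs_pbRes]
  rw [h2] at h1
  exact h1

theorem O_resι {G : Over X} {U : X.Opens} (x : Fin r → Γ(E, U)) (b : Pt E r G.hom) :
    O x (bc (O x b).ι (Over.w (resι G (O x b))) b) = ⊤ := by
  rw [O_bc]
  exact Scheme.Opens.ι_preimage_self _

/-- The chart of a universal class. -/
theorem exists_chart_iso [E.IsQuasicoherent] {G : Over X} {b : Pt E r G.hom} (hb : IsUniv G b)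
    {U : X.Opens} (hU : IsAffineOpen U) (x : Fin r → Γ(E, U)) :
    ∃ γ : res G (O x b) ⟶ chart hU x, IsIso γ.left ∧
      bc γ.left (Over.w γ) (cls (Ψ hU x) (rank_free _)) = bc (O x b).ι (Over.w (resι G (O x b))) b := by
  obtain ⟨γ, hγ, -⟩ := existsUnique_lift hU x (res G (O x b)) _ (O_resι x b)
  replace hγ : bc γ.left (Over.w γ) (cls (Ψ hU x) (rank_free _)) = bc (O x b).ι (Over.w (resι G (O x b))) b := hγ
  let a₀ : Pt E r (chart hU x).hom := cls (Ψ hU x) (rank_free _)
  obtain ⟨δ, hδ, -⟩ := hb (chart hU x) a₀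
  have hrange : Set.range δ.left ⊆ Set.range (O x b).ι := by
    rintro _ ⟨z, rfl⟩
    rw [Scheme.Opens.range_ι]
    have h1 : O x a₀ = ⊤ := O_univClass hU x
    rw [← hδ, O_bc] at h1
    exact h1.ge (Set.mem_univ z)
  let δ' : chart hU x ⟶ res G (O x b) := Over.homMk (IsOpenImmersion.lift (O x b).ι δ.left hrange) (by
    show IsOpenImmersion.lift _ _ _ ≫ (O x b).ι ≫ G.hom = _
    rw [IsOpenImmersion.lift_fac_assoc, Over.w δ])
  have hδ' : δ' ≫ resι G (O x b) = δ := Over.OverMorphism.ext (IsOpenImmersion.lift_fac _ _ _)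
  have e1 : δ' ≫ γ = 𝟙 _ := by
    refine (existsUnique_lift hU x _ a₀ (O_univClass hU x)).unique ?_ ?_
    · show bc (δ'.left ≫ γ.left) (Over.w (δ' ≫ γ)) a₀ = a₀
      rw [bc_comp δ'.left γ.left (Over.w γ) (Over.w δ') _ a₀, hγ,
        ← bc_comp δ'.left (O x b).ι _ _ (Over.w (δ' ≫ resι G (O x b))) b]
      show bc (δ' ≫ resι G (O x b)).left _ b = a₀
      simp only [hδ']
      exact hδ
    · exact bc_id a₀
  have e2 : γ ≫ δ' = 𝟙 _ := by
    have : γ ≫ δ = resι G (O x b) := (hb (res G (O x b)) _).unique (by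
      show bc (γ.left ≫ δ.left) (Over.w (γ ≫ δ)) b = _
      rw [bc_comp γ.left δ.left (Over.w δ) (Over.w γ) _ b, hδ]
      exact hγ) rfl
    rw [← hδ', ← Category.assoc] at this
    refine Over.OverMorphism.ext ((cancel_mono (O x b).ι).1 ?_)
    exact (congrArg CommaMorphism.left this).trans (Category.id_comp _).symm
  exact ⟨γ, ⟨δ'.left, congrArg CommaMorphism.left e2, congrArg CommaMorphism.left e1⟩, hγ⟩

variable {V L : X.Modules} [V.IsQuasicoherent] [L.IsQuasicoherent] {q : ℕ}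
  (φ : ∀ U : X.affineOpens, Γ(L, U.1) ≃ₗ[Γ(X, U.1)] ↥(⋀[Γ(X, U.1)]^q Γ(V, U.1)))
  (hφ : ∀ (U U' : X.affineOpens) (h : U'.1 ≤ U.1) (e : Fin q → Γ(V, U.1)),
    rs L h ((φ U).symm (exteriorPower.ιMulti _ q e)) =
      (φ U').symm (exteriorPower.ιMulti _ q fun j => rs V h (e j)))

include hφ in
omit [L.IsQuasicoherent] in
/-- The Plücker class exists globally. -/
theorem exists_pluckerClass {T : Over X} (a : Pt V q T.hom) :
    ∃ b : Pt L 1 T.hom, ∀ (U : X.affineOpens) (x : Fin q → Γ(V, U.1)),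
      bc (O x a).ι (Over.w (resι T (O x a))) b =
        plk φ hφ (bc (O x a).ι (Over.w (resι T (O x a))) a) (isFrame_fr (O_resι x a)) := by
  let ι := Σ U : X.affineOpens, Fin q → Γ(V, U.1)
  let Vs : ι → T.left.Opens := fun i => O i.2 a
  obtain ⟨b, hb⟩ := (isZSheaf L 1).glue T ι Vs (fun p => by
    obtain ⟨W, hW, hpW, -⟩ := exists_isAffineOpen_mem_and_subset (X := X) (x := T.hom p) (U := ⊤) trivial
    obtain ⟨x, hx⟩ := Span.exists_at hW T.hom (rank_quo a) (quo a) (le_refl (T.hom ⁻¹ᵁ W)) (p := p) hpW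
    exact ⟨⟨⟨W, hW⟩, x⟩, hpW, hx⟩)
    (fun i => plk φ hφ (bc (Vs i).ι (Over.w (resι T (Vs i))) a) (isFrame_fr (O_resι i.2 a))) fun i k => by
      let D := Vs i ⊓ Vs k
      let a' : Pt V q (res T D).hom := bc D.ι (Over.w (resι T D)) a
      have hD : O i.2 a' = ⊤ := by
        rw [O_bc]
        exact top_le_iff.1 fun z _ => z.2.1
      have key : ∀ (l : ι) (hl : D ≤ Vs l),
          bc (T.left.homOfLE hl) (Over.w (resLE T hl))
            (plk φ hφ (bc (Vs l).ι (Over.w (resι T (Vs l))) a) (isFrame_fr (O_resι l.2 a))) =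
          plk φ hφ a' (isFrame_fr hD) := fun l hl => by
        refine bc_plk φ hφ _ ?_ _ _
        rw [← bc_comp (T.left.homOfLE hl) (Vs l).ι (Over.w (resι T (Vs l))) (Over.w (resLE T hl))
          (Over.w (resLE T hl ≫ resι T (Vs l))) a]
        simp only [Scheme.homOfLE_ι]
        rfl
      exact (key i inf_le_left).trans (key k inf_le_right).symm
  exact ⟨b, fun U x => hb ⟨U, x⟩⟩

/-- The coordinate functional of a decomposable on a chart. -/
def detA {U : X.affineOpens} (x : Fin q → Γ(V, U.1)) :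
    Γ(V, U.1) [⋀^Fin q]→ₗ[Γ(X, U.1)] GrassRep.S Γ(X, U.1) x where
  toFun e := (Matrix.of fun j i => GrassRep.coord (R := Γ(X, U.1)) x i (e j)).det
  map_update_add' {dec} e j v w := by
    obtain rfl : dec = instDecidableEqFin q := Subsingleton.elim _ _
    have h : ∀ v, (Matrix.of fun k i => GrassRep.coord (R := Γ(X, U.1)) x i (Function.update e j v k)) =
        (Matrix.of fun k i => GrassRep.coord (R := Γ(X, U.1)) x i (e k)).updateRow j fun i => GrassRep.coord (R := Γ(X, U.1)) x i v := fun v => by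
      ext k i
      rcases eq_or_ne k j with h | h
      · subst h; simp
      · simp [Matrix.updateRow_ne h, Function.update_of_ne h]
    rw [h, h, h, show (fun i => GrassRep.coord (R := Γ(X, U.1)) x i (v + w)) =
      (fun i => GrassRep.coord (R := Γ(X, U.1)) x i v) + fun i => GrassRep.coord (R := Γ(X, U.1)) x i w from
        map_add (GrassRep.phiU Γ(X, U.1) x).1 v w, Matrix.det_updateRow_add]
  map_update_smul' {dec} e j r v := by
    obtain rfl : dec = instDecidableEqFin q := Subsingleton.elim _ _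
    have h : ∀ v, (Matrix.of fun k i => GrassRep.coord (R := Γ(X, U.1)) x i (Function.update e j v k)) =
        (Matrix.of fun k i => GrassRep.coord (R := Γ(X, U.1)) x i (e k)).updateRow j fun i => GrassRep.coord (R := Γ(X, U.1)) x i v := fun v => by
      ext k i
      rcases eq_or_ne k j with h | h
      · subst h; simp
      · simp [Matrix.updateRow_ne h, Function.update_of_ne h]
    rw [h, h, show (fun i => GrassRep.coord (R := Γ(X, U.1)) x i (r • v)) =
      algebraMap Γ(X, U.1) (GrassRep.S Γ(X, U.1) x) r • fun i => GrassRep.coord (R := Γ(X, U.1)) x i v from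
        (map_smul (GrassRep.phiU Γ(X, U.1) x).1 r v).trans (funext fun i => Algebra.smul_def r (GrassRep.coord (R := Γ(X, U.1)) x i v)),
      Matrix.det_updateRow_smul, Algebra.smul_def]
  map_eq_zero_of_eq' e i j h hij := by
    exact Matrix.det_zero_of_row_eq hij (funext fun k => by simp [h])

theorem detA_update {U : X.affineOpens} (x : Fin q → Γ(V, U.1)) (i : Fin q) (m : Γ(V, U.1)) :
    detA x (Function.update x i m) = GrassRep.coord (R := Γ(X, U.1)) x i m := by
  have hx : ∀ k l, GrassRep.coord (R := Γ(X, U.1)) x l (x k) = (1 : Matrix (Fin q) (Fin q) (GrassRep.S Γ(X, U.1) x)) k l :=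
    fun k l => (congrFun ((GrassRep.phiU Γ(X, U.1) x).2 k) l).trans (by simp [Pi.single_apply, Matrix.one_apply, eq_comm])
  have h : (Matrix.of fun k l => GrassRep.coord (R := Γ(X, U.1)) x l (Function.update x i m k)) =
      ((1 : Matrix (Fin q) (Fin q) (GrassRep.S Γ(X, U.1) x)).updateRow i fun l => GrassRep.coord (R := Γ(X, U.1)) x l m) := by
    ext k l
    rcases eq_or_ne k i with h | h
    · subst h; simp
    · simp [Matrix.updateRow_ne h, Function.update_of_ne h, hx]
  show (Matrix.of fun k l => GrassRep.coord (R := Γ(X, U.1)) x l (Function.update x i m k)).det = _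
  rw [h, ← Matrix.det_transpose, ← Matrix.updateCol_transpose, Matrix.transpose_one, ← Matrix.cramer_apply,
    Matrix.cramer_one]
  rfl

/-- The map between chart rings. -/
theorem exists_rho {U : X.affineOpens} (x : Fin q → Γ(V, U.1)) :
    ∃ ρ : GrassRep.S Γ(X, U.1) (fun _ : Fin 1 => dec φ U x) →ₐ[Γ(X, U.1)] GrassRep.S Γ(X, U.1) x,
      Function.Surjective ρ ∧ ∀ e, ρ (GrassRep.coord (fun _ : Fin 1 => dec φ U x) 0 (dec φ U e)) = detA x e := by
  let D : Γ(L, U.1) →ₗ[Γ(X, U.1)] GrassRep.S Γ(X, U.1) x :=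
    exteriorPower.alternatingMapLinearEquiv (detA x) ∘ₗ (φ U).toLinearMap
  have hD : ∀ e, D (dec φ U e) = detA x e := fun e => by
    simp only [D, dec, LinearMap.comp_apply, LinearEquiv.coe_coe, LinearEquiv.apply_symm_apply,
      exteriorPower.alternatingMapLinearEquiv_apply_ιMulti]
  have h1 : D (dec φ U x) = 1 := by
    rw [hD]
    show (Matrix.of fun j i => GrassRep.coord x i (x j)).det = 1
    rw [show (Matrix.of fun j i => GrassRep.coord x i (x j)) =
      (1 : Matrix (Fin q) (Fin q) (GrassRep.S Γ(X, U.1) x)) from Matrix.ext fun k l =>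
        (congrFun ((GrassRep.phiU Γ(X, U.1) x).2 k) l).trans (by simp [Pi.single_apply, Matrix.one_apply, eq_comm]),
      Matrix.det_one]
  let P : GrassRep.Phi Γ(X, U.1) (fun _ : Fin 1 => dec φ U x) (GrassRep.S Γ(X, U.1) x) :=
    ⟨LinearMap.pi fun _ => D, fun j => funext fun i => by simp [h1, Subsingleton.elim i j]⟩
  have hρ : ∀ e, GrassRep.liftS P (GrassRep.coord (fun _ : Fin 1 => dec φ U x) 0 (dec φ U e)) = detA x e := fun e => by
    rw [GrassRep.liftS_coord]
    exact hD e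
  refine ⟨GrassRep.liftS P, fun z => ?_, hρ⟩
  obtain ⟨p, rfl⟩ := Ideal.Quotient.mk_surjective z
  induction p using MvPolynomial.induction_on with
  | C t => exact ⟨algebraMap _ _ t, (GrassRep.liftS P).commutes t⟩
  | add a b ha hb =>
    obtain ⟨a', ha⟩ := ha
    obtain ⟨b', hb⟩ := hb
    exact ⟨a' + b', (map_add _ _ _).trans ((congrArg₂ (· + ·) ha hb).trans (map_add _ _ _).symm)⟩
  | mul_X a p ha =>
    obtain ⟨a', ha⟩ := ha
    exact ⟨a' * GrassRep.coord _ 0 (dec φ U (Function.update x p.1 p.2)),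
      (map_mul _ _ _).trans ((congrArg₂ (· * ·) ha ((hρ _).trans (detA_update x p.1 p.2))).trans (map_mul _ _ _).symm)⟩

include hφ in
/-- The universal Plücker class on a chart. -/
theorem exists_kappa {U : X.affineOpens} (x : Fin q → Γ(V, U.1)) :
    ∃ κ : chart U.2 x ⟶ chart U.2 (fun _ : Fin 1 => dec φ U x), IsClosedImmersion κ.left ∧
      bc κ.left (Over.w κ) (cls (Ψ U.2 (fun _ : Fin 1 => dec φ U x)) (rank_free _)) =
        plk φ hφ (cls (Ψ U.2 x) (rank_free _)) (isFrame_fr (O_univClass U.2 x)) := by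
  obtain ⟨ρ, hρs, hρ⟩ := exists_rho φ x
  let ℓ : Fin 1 → Γ(L, U.1) := fun _ => dec φ U x
  let k : (chart U.2 x).left ⟶ (chart U.2 ℓ).left := Spec.map (CommRingCat.ofHom ρ.toRingHom)
  have hk : k ≫ (chart U.2 ℓ).hom = (chart U.2 x).hom := by
    show Spec.map _ ≫ Spec.map _ ≫ U.2.fromSpec = Spec.map _ ≫ U.2.fromSpec
    rw [← Spec.map_comp_assoc, ← CommRingCat.ofHom_comp, show ρ.toRingHom.comp (algebraMap _ _) = _ from ρ.comp_algebraMap]
  have hfn : ∀ z, k.appTop (fn U.2 ℓ z) = fn U.2 x (ρ z) := fun z =>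
    congr($((Scheme.ΓSpecIso_inv_naturality (CommRingCat.ofHom ρ.toRingHom)).symm) z)
  refine ⟨Over.homMk k hk, IsClosedImmersion.spec_of_surjective (CommRingCat.ofHom ρ.toRingHom) hρs, ?_⟩
  let a₀ : Pt V q (chart U.2 x).hom := cls (Ψ U.2 x) (rank_free _)
  have hy := isFrame_fr (E := V) (a := a₀) (O_univClass U.2 x)
  haveI := epi_Φ φ hφ (rank_quo a₀) (quo a₀) hy
  haveI := epi_bc hk (Ψ U.2 ℓ)
  obtain ⟨i, hi⟩ : ∃ i : cokernel ((equivShrink _).symm a₀).1.arrow ≅ FlatMod.freeMod (chart U.2 x).left q,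
      quo a₀ ≫ i.hom = Ψ U.2 x := exists_iso_quo (Ψ U.2 x) (rank_free _)
  let ygen : Fin 1 → Γ((Scheme.Modules.pullback k).obj (FlatMod.freeMod (chart U.2 ℓ).left 1), ⊤) :=
    fun j => pbRes k _ (le_refl ⊤) (frame U.2 ℓ j)
  have hygen : IsFrame _ ⊤ ygen := (isFrame_gen (chart U.2 ℓ).left).pbRes k (le_refl ⊤)
  obtain ⟨j, hj⟩ : ∃ j : (Scheme.Modules.pullback k).obj (FlatMod.freeMod (chart U.2 ℓ).left 1) ⟶
      FlatMod.freeMod (chart U.2 x).left 1,
      ∀ l, j.app ⊤ (ygen l) = Modules.Free.gen (chart U.2 x).left l := by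
    refine ⟨((Scheme.Modules.pullbackPushforwardAdjunction k).homEquiv _ _).symm
      (Modules.Free.freeHom (M := (Scheme.Modules.pushforward k).obj (FlatMod.freeMod (chart U.2 x).left 1))
        (Modules.Free.gen (chart U.2 x).left)), fun l => ?_⟩
    have h1 := Modules.Free.freeHom_app_gen
      (M := (Scheme.Modules.pushforward k).obj (FlatMod.freeMod (chart U.2 x).left 1))
      (Modules.Free.gen (chart U.2 x).left) l
    rw [← ((Scheme.Modules.pullbackPushforwardAdjunction k).homEquiv _ _).apply_symm_apply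
      (Modules.Free.freeHom (M := (Scheme.Modules.pushforward k).obj (FlatMod.freeMod (chart U.2 x).left 1))
        (Modules.Free.gen (chart U.2 x).left)), Adjunction.homEquiv_unit] at h1
    refine Eq.trans (congrArg _ ?_) h1
    exact rs_self _ _ _
  haveI := isIso_of_frames j hygen (isFrame_gen _) hj
  show bc k hk _ = _
  rw [plk, bc_cls k hk _ _ (epi_bc hk _)]
  refine (cls_eq_iff _ _).2 ⟨asIso j, ?_⟩
  refine AffineHom.hom_ext U.2 (chart U.2 x).hom (chart_le U.2 x) L _ _ fun l => ?_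
  obtain ⟨t, rfl⟩ := (φ U).symm.surjective l
  have ht : t ∈ Submodule.span Γ(X, U.1) (Set.range (exteriorPower.ιMulti Γ(X, U.1) q (M := Γ(V, U.1)))) := by
    rw [exteriorPower.ιMulti_span]; trivial
  induction ht using Submodule.span_induction with
  | mem t ht =>
    obtain ⟨e, rfl⟩ := ht
    let C : Matrix (Fin q) (Fin q) Γ((chart U.2 x).left, ⊤) := Matrix.of fun j => cf U.2 x (e j)
    have hC : ∀ l, comb (fr x a₀ (O_univClass U.2 x)) le_top (C l) =
        (quo a₀).app ⊤ (pbRes (chart U.2 x).hom V (chart_le U.2 x) (e l)) := fun l => by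
      refine Modules.LocalSections.app_injective i.hom ⊤ ?_
      have h2 : ∀ m, i.hom.app ⊤ ((quo a₀).app ⊤ (pbRes (chart U.2 x).hom V (chart_le U.2 x) m)) =
          comb (frame U.2 x) le_rfl (cf U.2 x m) := fun m => by
        rw [← CategoryTheory.comp_apply, ← Scheme.Modules.Hom.comp_app, hi, Ψ_app]
      rw [h2]
      simp only [comb, map_sum, Scheme.Modules.Hom.app_smul, rs_self]
      refine Finset.sum_congr rfl fun p _ => congrArg (_ • ·) ?_
      exact (h2 (x p)).trans (by rw [cf_self, comb_single])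
    have h3 := Φ_app φ hφ (quo a₀) hy U e (chart_le U.2 x) C hC
    rw [rs_self] at h3
    rw [Scheme.Modules.Hom.comp_app, CategoryTheory.comp_apply, quotBC_Ψ_app U.2 ℓ k hk (chart_le U.2 x)]
    refine Eq.trans ?_ h3.symm
    simp only [comb, Fin.sum_univ_one, rs_self, Scheme.Modules.Hom.app_smul, asIso_hom]
    rw [hj, hfn, hρ]
    congr 1
    exact RingHom.map_det (fn U.2 x) _
  | zero => simp only [map_zero]
  | add a b _ _ ha hb => simp only [map_add, ha, hb]
  | smul t b _ hb => simp only [map_smul, ZarCoh.FlatBC.PullbackSections.pbRes_smul, Scheme.Modules.Hom.app_smul, hb]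

omit [L.IsQuasicoherent] in
/-- Decomposable sections give frames of line quotients near every point. -/
theorem exists_dec_at [L.IsQuasicoherent] {T : Scheme.{u}} {g : T ⟶ X} (a : Pt L 1 g) {U : X.affineOpens} {p : T}
    (hp : p ∈ g ⁻¹ᵁ U.1) : ∃ x : Fin q → Γ(V, U.1), p ∈ O (fun _ : Fin 1 => dec φ U x) a := by
  obtain ⟨U₀, hpU₀, ⟨i⟩⟩ := rank_quo a p
  obtain ⟨e, he⟩ := Pinch.StalkFrame.exists_isFrame_of_iso i
  by_contra hne
  push Not at hne
  let ge := (cokernel ((equivShrink _).symm a).1.arrow).presheaf.germ U₀ p hpU₀ (e 0)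
  have key : ∀ m : Γ(L, U.1), ∃ c ∈ IsLocalRing.maximalIdeal (T.presheaf.stalk p),
      (cokernel ((equivShrink _).symm a).1.arrow).presheaf.germ (g ⁻¹ᵁ U.1) p hp
        ((quo a).app (g ⁻¹ᵁ U.1) (pbRes g L le_rfl m)) = c • ge := by
    intro m
    obtain ⟨t, rfl⟩ := (φ U).symm.surjective m
    have ht : t ∈ Submodule.span Γ(X, U.1) (Set.range (exteriorPower.ιMulti Γ(X, U.1) q (M := Γ(V, U.1)))) := by
      rw [exteriorPower.ιMulti_span]; trivial
    induction ht using Submodule.span_induction with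
    | mem t ht =>
      obtain ⟨x, rfl⟩ := ht
      obtain ⟨c, hc⟩ := (he p hpU₀).2 ((cokernel ((equivShrink _).symm a).1.arrow).presheaf.germ (g ⁻¹ᵁ U.1) p hp
        ((quo a).app (g ⁻¹ᵁ U.1) (pbRes g L le_rfl (dec φ U x))))
      simp only [Fin.sum_univ_one] at hc
      refine ⟨c 0, fun hu => hne x ⟨hp, ?_⟩, hc.symm⟩
      have hd : ∀ d : Fin 1 → T.presheaf.stalk p,
          (∑ l, d l • (cokernel ((equivShrink _).symm a).1.arrow).presheaf.germ (g ⁻¹ᵁ U.1) p hp
            (vals (fun _ : Fin 1 => dec φ U x) a l)) =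
          (fun d : Fin 1 → T.presheaf.stalk p => ∑ l, d l •
            (cokernel ((equivShrink _).symm a).1.arrow).presheaf.germ U₀ p hpU₀ (e l)) fun _ => d 0 * c 0 := fun d => by
        simp only [Fin.sum_univ_one, vals, ← hc, smul_smul]
      show Function.Bijective _
      rw [funext hd]
      refine (he p hpU₀).comp ⟨fun d d' h => funext fun l => ?_, fun d => ?_⟩
      · rw [Subsingleton.elim l 0]
        exact hu.mul_right_cancel (congrFun h 0)
      · obtain ⟨v, hv⟩ := hu.exists_left_inv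
        refine ⟨fun _ => d 0 * v, funext fun l => ?_⟩
        rw [Subsingleton.elim l 0]
        show d 0 * v * c 0 = d 0
        rw [mul_assoc, hv, mul_one]
    | zero => exact ⟨0, zero_mem _, by simp only [map_zero, zero_smul]⟩
    | add s t _ _ hs ht =>
      obtain ⟨c, hc, hs⟩ := hs
      obtain ⟨d, hd, ht⟩ := ht
      exact ⟨c + d, add_mem hc hd, by simp only [map_add, hs, ht, add_smul]⟩
    | smul r t _ ht =>
      obtain ⟨d, hd, ht⟩ := ht
      refine ⟨T.presheaf.germ (g ⁻¹ᵁ U.1) p hp (g.appLE U.1 _ le_rfl r) * d, Ideal.mul_mem_left _ _ hd, ?_⟩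
      rw [map_smul, ZarCoh.FlatBC.PullbackSections.pbRes_smul, Scheme.Modules.Hom.app_smul,
        Modules.StalkModule.germ_smul, ht, mul_smul]
  have hspan := Span.span_germ_app U.2 g (quo a) (le_refl (g ⁻¹ᵁ U.1)) hp
  have : ge ∈ Submodule.span (T.presheaf.stalk p) (Set.range fun m : Γ(L, U.1) =>
      (cokernel ((equivShrink _).symm a).1.arrow).presheaf.germ (g ⁻¹ᵁ U.1) p hp
        ((quo a).app (g ⁻¹ᵁ U.1) (pbRes g L le_rfl m))) := hspan ▸ Submodule.mem_top
  have h2 : ∀ v ∈ Submodule.span (T.presheaf.stalk p) (Set.range fun m : Γ(L, U.1) =>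
      (cokernel ((equivShrink _).symm a).1.arrow).presheaf.germ (g ⁻¹ᵁ U.1) p hp
        ((quo a).app (g ⁻¹ᵁ U.1) (pbRes g L le_rfl m))),
      ∃ c ∈ IsLocalRing.maximalIdeal (T.presheaf.stalk p), v = c • ge := fun v hv => by
    induction hv using Submodule.span_induction with
    | mem v hv => obtain ⟨m, rfl⟩ := hv; exact key m
    | zero => exact ⟨0, zero_mem _, (zero_smul _ _).symm⟩
    | add s t _ _ hs ht =>
      obtain ⟨c, hc, rfl⟩ := hs
      obtain ⟨d, hd, rfl⟩ := ht
      exact ⟨c + d, add_mem hc hd, (add_smul _ _ _).symm⟩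
    | smul r t _ ht =>
      obtain ⟨d, hd, rfl⟩ := ht
      exact ⟨r * d, Ideal.mul_mem_left _ _ hd, smul_smul _ _ _⟩
  obtain ⟨c, hc, hce⟩ := h2 ge this
  have h3 : (fun _ : Fin 1 => c) = fun _ => (1 : T.presheaf.stalk p) := (he p hpU₀).1 (by
    simp only [Fin.sum_univ_one, one_smul]
    exact hce.symm)
  rw [congrFun h3 0] at hc
  exact (Ideal.ne_top_iff_one _).1 (IsLocalRing.maximalIdeal.isMaximal _).ne_top hc

include hφ in
/-- A morphism classifying the Plücker class is a closed immersion. -/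
theorem exists_closedImmersion {G P : Over X} {b : Pt V q G.hom} (hb : IsUniv G b) {bP : Pt L 1 P.hom}
    (hP : IsUniv P bP) : ∃ c : G ⟶ P, IsClosedImmersion c.left := by
  obtain ⟨B, hB⟩ := exists_pluckerClass φ hφ b
  obtain ⟨c, hc, -⟩ := hP G B
  refine ⟨c, ?_⟩
  let Op : (Σ U : X.affineOpens, Fin q → Γ(V, U.1)) → P.left.Opens :=
    fun i => O (fun _ : Fin 1 => dec φ i.1 i.2) bP
  have hcov : iSup Op = ⊤ := top_le_iff.1 fun p _ => by
    obtain ⟨W, hW, hpW, -⟩ := exists_isAffineOpen_mem_and_subset (X := X) (x := P.hom p) (U := ⊤) trivial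
    obtain ⟨x, hx⟩ := exists_dec_at φ bP (U := ⟨W, hW⟩) (p := p) hpW
    exact Opens.mem_iSup.2 ⟨⟨⟨W, hW⟩, x⟩, hx⟩
  rw [IsZariskiLocalAtTarget.iff_of_iSup_eq_top (P := @IsClosedImmersion) Op hcov]
  rintro ⟨U, x⟩
  let ℓ : Fin 1 → Γ(L, U.1) := fun _ => dec φ U x
  have hpre : c.left ⁻¹ᵁ O ℓ bP = O x b := by
    rw [← O_bc ℓ (Over.w c) bP, hc]
    have heq : ∀ (U' : X.affineOpens) (x' : Fin q → Γ(V, U'.1)),
        (O x' b).ι ⁻¹ᵁ O ℓ B = (O x' b).ι ⁻¹ᵁ O x b := fun U' x' =>
      (O_bc ℓ (Over.w (resι G (O x' b))) B).symm.trans ((congrArg (O ℓ) (hB U' x')).trans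
        ((O_plk φ hφ _ _ U x).trans (O_bc x (Over.w (resι G (O x' b))) b)))
    ext z
    constructor
    · intro hz
      obtain ⟨W, hW, hzW, -⟩ := exists_isAffineOpen_mem_and_subset (X := X) (x := G.hom z) (U := ⊤) trivial
      obtain ⟨x', hx'⟩ := Span.exists_at hW G.hom (rank_quo b) (quo b) (le_refl (G.hom ⁻¹ᵁ W)) (p := z) hzW
      exact (SetLike.ext_iff.1 (heq ⟨W, hW⟩ x') ⟨z, hzW, hx'⟩).1 hz
    · intro hz
      exact (SetLike.ext_iff.1 (heq U x) ⟨z, hz⟩).2 hz
  obtain ⟨γ, hγi, hγ⟩ := exists_chart_iso hb U.2 x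
  obtain ⟨γP, hγPi, hγP⟩ := exists_chart_iso hP U.2 ℓ
  obtain ⟨κ, hκi, hκ⟩ := exists_kappa φ hφ x
  let d : res G (O x b) ⟶ res P (O ℓ bP) := Over.homMk
    (c.left.resLE (O ℓ bP) (O x b) hpre.ge) (by
      show c.left.resLE _ _ _ ≫ (O ℓ bP).ι ≫ P.hom = (O x b).ι ≫ G.hom
      rw [← Category.assoc, Scheme.Hom.resLE_comp_ι, Category.assoc, Over.w c])
  have hd : d ≫ resι P (O ℓ bP) = resι G (O x b) ≫ c :=
    Over.OverMorphism.ext (Scheme.Hom.resLE_comp_ι _ _)
  have key : γ ≫ κ = d ≫ γP := by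
    let a₁ := bc (O x b).ι (Over.w (resι G (O x b))) b
    have h1 : bc (γ ≫ κ).left (Over.w (γ ≫ κ)) (cls (Ψ U.2 ℓ) (rank_free _)) =
        plk φ hφ a₁ (isFrame_fr (O_resι x b)) := by
      rw [show bc (γ ≫ κ).left (Over.w (γ ≫ κ)) (cls (Ψ U.2 ℓ) (rank_free _)) =
        bc γ.left (Over.w γ) (bc κ.left (Over.w κ) (cls (Ψ U.2 ℓ) (rank_free _))) from
          bc_comp γ.left κ.left (Over.w κ) (Over.w γ) _ _, hκ]
      exact bc_plk φ hφ (Over.w γ) hγ _ _
    have h2 : bc (d ≫ γP).left (Over.w (d ≫ γP)) (cls (Ψ U.2 ℓ) (rank_free _)) =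
        plk φ hφ a₁ (isFrame_fr (O_resι x b)) := by
      rw [show bc (d ≫ γP).left (Over.w (d ≫ γP)) (cls (Ψ U.2 ℓ) (rank_free _)) =
        bc d.left (Over.w d) (bc γP.left (Over.w γP) (cls (Ψ U.2 ℓ) (rank_free _))) from
          bc_comp d.left γP.left (Over.w γP) (Over.w d) _ _, hγP,
        ← bc_comp d.left (O ℓ bP).ι (Over.w (resι P (O ℓ bP))) (Over.w d) (Over.w (d ≫ resι P (O ℓ bP))) bP]
      show bc (d ≫ resι P (O ℓ bP)).left _ bP = _
      simp only [hd]
      rw [show bc (resι G (O x b) ≫ c).left _ bP = bc (O x b).ι (Over.w (resι G (O x b))) (bc c.left (Over.w c) bP) from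
        bc_comp (O x b).ι c.left (Over.w c) (Over.w (resι G (O x b))) _ bP, hc, hB U x]
    refine (existsUnique_lift U.2 ℓ (res G (O x b)) _ ?_).unique h1 h2
    rw [O_plk, O_bc]
    exact Scheme.Opens.ι_preimage_self _
  haveI := hγi
  haveI := hγPi
  haveI := hκi
  have e : c.left ∣_ O ℓ bP = (G.left.isoOfEq hpre).hom ≫ γ.left ≫ κ.left ≫ inv γP.left := by
    rw [← Category.assoc γ.left, show γ.left ≫ κ.left = d.left ≫ γP.left from congrArg CommaMorphism.left key,
      Category.assoc, IsIso.hom_inv_id, Category.comp_id, ← cancel_mono (O ℓ bP).ι, morphismRestrict_ι,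
      Category.assoc]
    show _ = _ ≫ c.left.resLE _ _ _ ≫ _
    rw [Scheme.Hom.resLE_comp_ι, Scheme.isoOfEq_hom_ι_assoc]
  show IsClosedImmersion (c.left ∣_ O ℓ bP)
  rw [e]
  infer_instance

end

end Groth.Agent.Lib.GrassGen.Embed
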