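import Groth.Agent.Lib.GrassGen.Det

/-!
# The Plücker class of a quotient
-/

set_option autoImplicit false
set_option linter.style.haveILetI false
set_option backward.isDefEq.respectTransparency false
set_option backward.isDefEq.respectTransparency.types false
universe u

open CategoryTheory CategoryTheory.Limits AlgebraicGeometry Opposite TopologicalSpace
open ZarCoh.FlatBC.PullbackSections (pbRes)

namespace Groth.Agent.Lib.GrassGen.Plucker

noncomputable section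

open Groth.Agent.Lib GrassRep.QuotBC
open Groth.Agent.Lib.TensorMod.Dual (rs rf rs_rs rs_self rs_smul rf_self)
open Groth.Agent.Lib.Modules.TensorSec (app_rs)
open Groth.Agent.Lib.Pinch.StalkFrame (IsFrame comb comb_injective comb_surjective rs_comb rs_pbRes pbRes_rs)
open Det (dec Φ Φ_app)

variable {X : Scheme.{u}} {V L : X.Modules} [V.IsQuasicoherent] {q : ℕ}
  (φ : ∀ U : X.affineOpens, Γ(L, U.1) ≃ₗ[Γ(X, U.1)] ↥(⋀[Γ(X, U.1)]^q Γ(V, U.1)))
  (hφ : ∀ (U U' : X.affineOpens) (h : U'.1 ≤ U.1) (e : Fin q → Γ(V, U.1)),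
    rs L h ((φ U).symm (exteriorPower.ιMulti _ q e)) =
      (φ U').symm (exteriorPower.ιMulti _ q fun j => rs V h (e j)))
  {T : Scheme.{u}} {g : T ⟶ X}

theorem det_one (a : Γ(T, (⊤ : T.Opens))) : (Matrix.of fun (_ : Fin 1) (_ : Fin 1) => a).det = a := by
  simp [Matrix.det_fin_one]

/-- The determinant of a quotient map is an epimorphism. -/
theorem epi_Φ {Q : T.Modules} (hQ : FlatMod.IsFinLocFreeOfRank q Q)
    (s : (Scheme.Modules.pullback g).obj V ⟶ Q) [Epi s] {y : Fin q → Γ(Q, ⊤)} (hy : IsFrame Q ⊤ y) :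
    Epi (Φ φ hφ s hy) := Modules.LocalSections.epi_of_local fun W n p hp => by
  obtain ⟨U, hU, hpU, -⟩ := exists_isAffineOpen_mem_and_subset (X := X) (x := g p) (U := ⊤) trivial
  obtain ⟨x, hx⟩ := Span.exists_at hU g hQ s (le_refl (g ⁻¹ᵁ U)) (p := p) hpU
  let C : Matrix (Fin q) (Fin q) Γ(T, g ⁻¹ᵁ U) := Matrix.of fun j => Det.co s hy U (le_refl _) (x j)
  have hC : ∀ j, comb y le_top (C j) = s.app (g ⁻¹ᵁ U) (pbRes g V le_rfl (x j)) := fun j =>
    Det.comb_co s hy U le_rfl (x j)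
  rw [← funext hC, Frames.at_comb_iff hy le_top C hpU, ← T.mem_basicOpen _ p hpU] at hx
  let W' := W ⊓ T.basicOpen C.det
  have hW' : W' ≤ g ⁻¹ᵁ U := inf_le_right.trans (T.basicOpen_le _)
  let C' : Matrix (Fin q) (Fin q) Γ(T, W') := C.map (rf hW')
  have hC' : ∀ j, comb y le_top (C' j) = s.app W' (pbRes g V hW' (x j)) := fun j => by
    rw [← rs_pbRes g V (le_refl (g ⁻¹ᵁ U)) hW', app_rs, ← hC j, rs_comb]
    rfl
  have hu : IsUnit C'.det := by
    rw [← Det.rf_det]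
    have h1 := RingedSpace.isUnit_res_basicOpen T.toLocallyRingedSpace.toRingedSpace C.det
    exact h1.map (T.presheaf.map (homOfLE (inf_le_right : W' ≤ T.basicOpen C.det)).op).hom |>
      fun h2 => by
        convert h2 using 1
        exact ((ConcreteCategory.comp_apply _ _ _).symm.trans (by rw [← T.presheaf.map_comp]; rfl)).symm
  obtain ⟨d, hd⟩ := hu.exists_left_inv
  obtain ⟨c, hc⟩ := comb_surjective (isFrame_gen (r := 1) T) (le_top (a := W')) (rs _ (inf_le_left : W' ≤ W) n)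
  refine ⟨W', inf_le_left, (c 0 * d) • pbRes g L hW' (dec φ ⟨U, hU⟩ x), ⟨hp, hx⟩, ?_⟩
  rw [Scheme.Modules.Hom.app_smul, Φ_app φ hφ s hy ⟨U, hU⟩ x hW' C' hC', smul_smul, mul_assoc, hd, mul_one,
    ← hc]
  simp [comb]

/-- The Plücker class of a class with a frame. -/
def plk (a : Pt V q g) {y : Fin q → Γ(cokernel ((equivShrink _).symm a).1.arrow, ⊤)}
    (hy : IsFrame _ ⊤ y) : Pt L 1 g :=
  haveI := epi_Φ φ hφ (rank_quo a) (quo a) hy
  cls (Φ φ hφ (quo a) hy) (rank_free T)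

variable {T' : Scheme.{u}} {h : T' ⟶ T} {g' : T' ⟶ X}

/-- Plücker classes commute with base change. -/
theorem bc_plk (hg : h ≫ g = g') {a : Pt V q g} {a' : Pt V q g'} (ha : bc h hg a = a')
    {y : Fin q → Γ(cokernel ((equivShrink _).symm a).1.arrow, ⊤)} (hy : IsFrame _ ⊤ y)
    {y' : Fin q → Γ(cokernel ((equivShrink _).symm a').1.arrow, ⊤)} (hy' : IsFrame _ ⊤ y') :
    bc h hg (plk φ hφ a hy) = plk φ hφ a' hy' := by
  subst ha
  haveI := epi_bc hg (quo a)
  haveI := epi_Φ φ hφ (rank_quo a) (quo a) hy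
  haveI := epi_Φ φ hφ (rank_quo (bc h hg a)) (quo (bc h hg a)) hy'
  haveI := epi_bc hg (Φ φ hφ (quo a) hy)
  obtain ⟨i, hi⟩ : ∃ i : cokernel ((equivShrink _).symm (bc h hg a)).1.arrow ≅
      (Scheme.Modules.pullback h).obj (cokernel ((equivShrink _).symm a).1.arrow),
      quo (bc h hg a) ≫ i.hom = Grass.quotBC hg (quo a) :=
    exists_iso_quo (Grass.quotBC hg (quo a)) (TensorMod.LocFree.rank_pullback h (rank_quo a))
  replace hi : Grass.quotBC hg (quo a) ≫ i.inv = quo (bc h hg a) := by rw [Iso.comp_inv_eq]; exact hi.symm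
  let y'' : Fin q → Γ(cokernel ((equivShrink _).symm (bc h hg a)).1.arrow, ⊤) := fun k =>
    i.inv.app ⊤ (pbRes h _ (le_refl ⊤) (y k))
  have hy'' : IsFrame _ ⊤ y'' := fun z hz => by
    have h0 : Frames.At (fun k => pbRes h _ (le_refl (⊤ : T'.Opens)) (y k)) z hz := (hy.pbRes h (le_refl ⊤)) z hz
    exact (Frames.at_iso i.symm _ hz).2 h0
  choose D hD using fun k => comb_surjective hy' (le_refl (⊤ : T'.Opens)) (y'' k)
  let D' : Matrix (Fin q) (Fin q) Γ(T', ⊤) := Matrix.of D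
  have hδ : IsUnit D'.det :=
    RingedSpace.isUnit_of_isUnit_germ T'.toLocallyRingedSpace.toRingedSpace ⊤ D'.det fun z hz =>
      (Frames.at_comb_iff hy' le_rfl D' hz).1 (by
        rw [show (fun k => comb y' le_rfl (D' k)) = y'' from funext hD]
        exact hy'' z hz)
  let e : Fin 1 → Γ(FlatMod.freeMod T' 1, ⊤) := fun _ => D'.det • Modules.Free.gen T' 0
  have he : IsFrame (FlatMod.freeMod T' 1) ⊤ e := fun z hz => by
    have : e = fun k => comb (Modules.Free.gen T' : Fin 1 → _) le_rfl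
        ((Matrix.of fun (_ : Fin 1) (_ : Fin 1) => D'.det) k) := funext fun k => by
      simp [e, comb, rs_self]
    rw [this]
    exact (Frames.at_comb_iff (isFrame_gen (r := 1) T') le_rfl _ hz).2 (by
      rw [det_one]; exact hδ.map _)
  have hgen : IsFrame _ ⊤ fun k : Fin 1 => pbRes h (FlatMod.freeMod T 1) (le_refl (⊤ : T'.Opens)) (Modules.Free.gen T k) :=
    (isFrame_gen (r := 1) T).pbRes h (le_refl ⊤)
  obtain ⟨j, hj⟩ : ∃ j : (Scheme.Modules.pullback h).obj (FlatMod.freeMod T 1) ⟶ FlatMod.freeMod T' 1,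
      ∀ k, j.app ⊤ (pbRes h (FlatMod.freeMod T 1) (le_refl (⊤ : T'.Opens)) (Modules.Free.gen T k)) = e k := by
    refine ⟨((Scheme.Modules.pullbackPushforwardAdjunction h).homEquiv _ _).symm
      (Modules.Free.freeHom (M := (Scheme.Modules.pushforward h).obj (FlatMod.freeMod T' 1)) e), fun k => ?_⟩
    have h1 := Modules.Free.freeHom_app_gen (M := (Scheme.Modules.pushforward h).obj (FlatMod.freeMod T' 1)) e k
    rw [← ((Scheme.Modules.pullbackPushforwardAdjunction h).homEquiv _ _).apply_symm_apply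
      (Modules.Free.freeHom (M := (Scheme.Modules.pushforward h).obj (FlatMod.freeMod T' 1)) e),
      Adjunction.homEquiv_unit] at h1
    refine Eq.trans (congrArg _ ?_) h1
    exact rs_self _ _ _
  haveI := isIso_of_frames j hgen he hj
  rw [plk, plk, bc_cls h hg _ _ (epi_bc hg _)]
  refine (cls_eq_iff _ _).2 ⟨asIso j, Det.hom_ext_dec φ _ _ fun U x => ?_⟩
  have eW : g' ⁻¹ᵁ U.1 ≤ h ⁻¹ᵁ (g ⁻¹ᵁ U.1) := by rw [← hg]; rfl
  let C : Matrix (Fin q) (Fin q) Γ(T, g ⁻¹ᵁ U.1) :=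
    Matrix.of fun j => Det.co (quo a) hy U.1 (le_refl _) (x j)
  have hC : ∀ j, comb y le_top (C j) = (quo a).app _ (pbRes g V le_rfl (x j)) := fun j =>
    Det.comb_co (quo a) hy U.1 le_rfl (x j)
  let C' : Matrix (Fin q) (Fin q) Γ(T', g' ⁻¹ᵁ U.1) := C.map (h.appLE _ _ eW) * D'.map (rf le_top)
  have hC' : ∀ k, comb y' le_top (C' k) = (quo (bc h hg a)).app _ (pbRes g' V le_rfl (x k)) := fun k => by
    have h1 : (quo (bc h hg a)).app _ (pbRes g' V le_rfl (x k)) =
        comb y'' le_top ((C.map (h.appLE _ _ eW)) k) := by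
      rw [← hi, Scheme.Modules.Hom.comp_app, CategoryTheory.comp_apply,
        ← DescAlg.PbSec.R_pbRes h hg V (le_refl (g ⁻¹ᵁ U.1)) eW (x k), quotBC_app, ← hC k,
        Frames.pbRes_comb h y le_top (C k) eW]
      simp only [comb, map_sum, Scheme.Modules.Hom.app_smul, y'']
      refine Finset.sum_congr rfl fun l _ => congrArg (_ • ·) ?_
      rw [rs_self, ← app_rs, rs_pbRes]
    have e : ∀ l, rs _ (le_top (a := g' ⁻¹ᵁ U.1)) (y'' l) = comb y' le_top fun i => rf le_top (D l i) := fun l => by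
      rw [← hD l, rs_comb]
    rw [h1, comb, comb]
    simp only [e, comb, Finset.smul_sum, smul_smul]
    rw [Finset.sum_comm]
    refine Finset.sum_congr rfl fun l _ => ?_
    rw [← Finset.sum_smul]
    rfl
  rw [Scheme.Modules.Hom.comp_app, CategoryTheory.comp_apply,
    ← DescAlg.PbSec.R_pbRes h hg L (le_refl (g ⁻¹ᵁ U.1)) eW (dec φ U x), quotBC_app,
    Φ_app φ hφ (quo a) hy U x le_rfl C hC, DescAlg.PbSec.R_pbRes,
    Φ_app φ hφ (quo (bc h hg a)) hy' U x le_rfl C' hC']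
  rw [ZarCoh.FlatBC.PullbackSections.pbRes_smul, pbRes_rs, Scheme.Modules.Hom.app_smul,
    ← rs_pbRes h (FlatMod.freeMod T 1) (le_refl (⊤ : T'.Opens)) (le_top (a := g' ⁻¹ᵁ U.1)), app_rs, asIso_hom,
    hj, rs_smul, smul_smul, Det.rf_det]
  congr 1
  rw [Matrix.det_mul, show (h.appLE (g ⁻¹ᵁ U.1) (g' ⁻¹ᵁ U.1) eW) C.det = (C.map (h.appLE _ _ eW)).det from
    RingHom.map_det (h.appLE (g ⁻¹ᵁ U.1) (g' ⁻¹ᵁ U.1) eW).hom C]

/-- The frame locus of a decomposable section in the Plücker class. -/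
theorem O_plk (a : Pt V q g) {y : Fin q → Γ(cokernel ((equivShrink _).symm a).1.arrow, ⊤)}
    (hy : IsFrame _ ⊤ y) (U : X.affineOpens) (x : Fin q → Γ(V, U.1)) :
    O (fun _ : Fin 1 => dec φ U x) (plk φ hφ a hy) = O x a := by
  haveI := epi_Φ φ hφ (rank_quo a) (quo a) hy
  have key : ∀ (z : T) (hz : z ∈ g ⁻¹ᵁ U.1),
      Frames.At (vals (fun _ : Fin 1 => dec φ U x) (plk φ hφ a hy)) z hz ↔ Frames.At (vals x a) z hz := by
    intro z hz
    let C : Matrix (Fin q) (Fin q) Γ(T, g ⁻¹ᵁ U.1) :=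
      Matrix.of fun j => Det.co (quo a) hy U.1 (le_refl _) (x j)
    have hC : ∀ j, comb y le_top (C j) = (quo a).app _ (pbRes g V le_rfl (x j)) := fun j =>
      Det.comb_co (quo a) hy U.1 le_rfl (x j)
    have h1 : (fun _ : Fin 1 => (Φ φ hφ (quo a) hy).app (g ⁻¹ᵁ U.1) (pbRes g L le_rfl (dec φ U x))) =
        fun k => comb (Modules.Free.gen T : Fin 1 → _) (le_top (a := g ⁻¹ᵁ U.1))
          ((Matrix.of fun (_ : Fin 1) (_ : Fin 1) => C.det) k) := funext fun k => by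
      rw [Φ_app φ hφ (quo a) hy U x le_rfl C hC]
      simp [comb]
    have h2 : vals x a = fun k => comb y le_top (C k) := funext fun k => (hC k).symm
    rw [plk, at_vals_cls_iff, h1, h2, Frames.at_comb_iff (isFrame_gen (r := 1) T) le_top _ hz,
      Frames.at_comb_iff hy le_top C hz, show (Matrix.of fun (_ : Fin 1) (_ : Fin 1) => C.det).det = C.det by
        simp [Matrix.det_fin_one]]
  ext z
  exact ⟨fun ⟨hz, h1⟩ => ⟨hz, (key z hz).1 h1⟩, fun ⟨hz, h1⟩ => ⟨hz, (key z hz).2 h1⟩⟩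

/-- The frame of a class on a chart. -/
def fr {U : X.Opens} (x : Fin q → Γ(V, U)) (a : Pt V q g) (ha : O x a = ⊤) :
    Fin q → Γ(cokernel ((equivShrink _).symm a).1.arrow, ⊤) :=
  fun k => (quo a).app ⊤ (pbRes g V (fun z _ => (ha.ge (Set.mem_univ z)).1) (x k))

end

end Groth.Agent.Lib.GrassGen.Plucker
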