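import Groth.Agent.Lib.GrassGen.Classes
import Groth.Agent.Lib.Modules.OpenRes
import Groth.Agent.Lib.WeilRep.Glue
import Groth.Agent.Lib.TensorMod.TensorInv

/-!
# Quotients of inverse images form a Zariski sheaf
-/

set_option autoImplicit false
set_option linter.style.haveILetI false
set_option backward.isDefEq.respectTransparency false
set_option backward.isDefEq.respectTransparency.types false
universe u

open CategoryTheory CategoryTheory.Limits AlgebraicGeometry Opposite TopologicalSpace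
open ZarCoh.FlatBC.PullbackSections (pbRes)

namespace Groth.Agent.Lib.GrassGen

noncomputable section

open Groth.Agent.Lib GrassRep.QuotBC Modules
open Groth.Agent.Lib.TensorMod.Dual (rs rs_rs)
open Groth.Agent.Lib.Modules.TensorSec (app_rs)

variable {X : Scheme.{u}} {E : X.Modules} {r : ℕ} {T T' : Scheme.{u}}

theorem rank_of_locally {M : T.Modules}
    (h : ∀ x : T, ∃ U : T.Opens, x ∈ U ∧ FlatMod.IsFinLocFreeOfRank r (M.restrict U.ι)) :
    FlatMod.IsFinLocFreeOfRank r M := by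
  intro x
  obtain ⟨U, hx, hU⟩ := h x
  obtain ⟨W, hW, ⟨i⟩⟩ := hU ⟨x, hx⟩
  obtain ⟨e, he⟩ := TensorMod.Basis.exists_basis_of_iso i
  obtain ⟨e', he'⟩ := TensorMod.TensorInv.exists_basis_image W he
  exact ⟨U.ι ''ᵁ W, ⟨⟨x, hx⟩, hW, rfl⟩, TensorMod.Basis.exists_iso_of_basis he'⟩

theorem unfoldIso_eq {h : T' ⟶ T} {g : T ⟶ X} {g' : T' ⟶ X} (hg : h ≫ g = g') :
    unfoldIso hg E = (DescAlg.PbSec.tr h hg E).inv := by
  simp [DescAlg.PbSec.tr, unfoldIso]

/-- A base-changed quotient on pulled back sections. -/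
theorem quotBC_app {h : T' ⟶ T} {g : T ⟶ X} {g' : T' ⟶ X} (hg : h ≫ g = g') {L : T.Modules}
    (s : (Scheme.Modules.pullback g).obj E ⟶ L) {W : T.Opens} {V : T'.Opens} (e : V ≤ h ⁻¹ᵁ W)
    (m : Γ((Scheme.Modules.pullback g).obj E, W)) :
    (Grass.quotBC hg s).app V (DescAlg.PbSec.R h hg E e m) = pbRes h L e (s.app W m) := by
  rw [quotBC_eq, unfoldIso_eq, DescAlg.PbSec.R_eq, Scheme.Modules.Hom.comp_app, CategoryTheory.comp_apply,
    ← CategoryTheory.comp_apply ((DescAlg.PbSec.tr h hg E).hom.app V), ← Scheme.Modules.Hom.comp_app,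
    Iso.hom_inv_id, Scheme.Modules.Hom.id_app, CategoryTheory.id_apply, OpenRes.pbRes_natural]

theorem kills_bc_iff {h : T' ⟶ T} [IsOpenImmersion h] {g : T ⟶ X} {g' : T' ⟶ X} (hg : h ≫ g = g')
    {L : T.Modules} (s : (Scheme.Modules.pullback g).obj E ⟶ L) {W : T.Opens} (hW : W ≤ h.opensRange)
    (m : Γ((Scheme.Modules.pullback g).obj E, W)) :
    (Grass.quotBC hg s).app (h ⁻¹ᵁ W) (DescAlg.PbSec.R h hg E le_rfl m) = 0 ↔ s.app W m = 0 := by
  rw [quotBC_app]
  refine ⟨fun e => (OpenRes.bijective_pbRes h L hW le_rfl rfl).1 ?_, fun e => ?_⟩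
  · rw [e]
    simp [pbRes]
  · rw [e]
    simp [pbRes]

/-- The sections killed by a class. -/
abbrev Kills {g : T ⟶ X} (a : Pt E r g) {W : T.Opens} (m : Γ((Scheme.Modules.pullback g).obj E, W)) : Prop :=
  (quo a).app W m = 0

theorem kills_cls {g : T ⟶ X} {L : T.Modules} (s : (Scheme.Modules.pullback g).obj E ⟶ L) [Epi s]
    (hL : FlatMod.IsFinLocFreeOfRank r L) {W : T.Opens} (m : Γ((Scheme.Modules.pullback g).obj E, W)) :
    Kills (cls s hL) m ↔ s.app W m = 0 := by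
  obtain ⟨i, hi⟩ := exists_iso_quo s hL
  exact OpenRes.kills_of_iso i hi m

theorem kills_rs {g : T ⟶ X} (a : Pt E r g) {W V : T.Opens} (h : V ≤ W)
    {m : Γ((Scheme.Modules.pullback g).obj E, W)} (hm : Kills a m) : Kills a (rs _ h m) := by
  rw [Kills, app_rs, show (quo a).app W m = 0 from hm]
  exact map_zero _

theorem kills_iff_rs {g : T ⟶ X} (a : Pt E r g) {W V : T.Opens} (h : W = V)
    (m : Γ((Scheme.Modules.pullback g).obj E, W)) : Kills a m ↔ Kills a (rs _ h.ge m) := by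
  subst h
  rw [TensorMod.Dual.rs_self]

theorem kills_bc {h : T' ⟶ T} [IsOpenImmersion h] {g : T ⟶ X} {g' : T' ⟶ X} (hg : h ≫ g = g')
    (a : Pt E r g) {W : T.Opens} (hW : W ≤ h.opensRange) (m : Γ((Scheme.Modules.pullback g).obj E, W)) :
    Kills (bc h hg a) (DescAlg.PbSec.R h hg E (le_refl (h ⁻¹ᵁ W)) m) ↔ Kills a m := by
  haveI := epi_bc hg (quo a)
  rw [bc, kills_cls, kills_bc_iff hg _ hW]

/-- Classes are determined by the sections they kill, locally. -/
theorem ext_of_kills {g : T ⟶ X} (a b : Pt E r g)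
    (h : ∀ x : T, ∃ V : T.Opens, x ∈ V ∧ ∀ W ≤ V, ∀ m : Γ((Scheme.Modules.pullback g).obj E, W),
      (Kills a m ↔ Kills b m)) : a = b := by
  rw [← cls_quo a, ← cls_quo b, cls_eq_iff]
  refine OpenRes.exists_iso_of_kills _ _ (fun U m hm p hp => ?_) (fun U m hm p hp => ?_)
  · obtain ⟨V, hpV, hV⟩ := h p
    exact ⟨U ⊓ V, inf_le_left, ⟨hp, hpV⟩, (hV _ inf_le_right _).1 (kills_rs a _ hm)⟩
  · obtain ⟨V, hpV, hV⟩ := h p
    exact ⟨U ⊓ V, inf_le_left, ⟨hp, hpV⟩, (hV _ inf_le_right _).2 (kills_rs b _ hm)⟩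

variable (E r) in
theorem sep (T : Over X) (a b : (pre E r).obj (op T))
    (h : ∀ x, ∃ V, x ∈ V ∧ WeilRep.Glue.act (pre E r) (WeilRep.Glue.resι T V) a =
      WeilRep.Glue.act (pre E r) (WeilRep.Glue.resι T V) b) : a = b := by
  refine ext_of_kills a b fun x => ?_
  obtain ⟨V, hxV, e⟩ := h x
  refine ⟨V, hxV, fun W hW m => ?_⟩
  have hW' : W ≤ V.ι.opensRange := by rwa [Scheme.Opens.opensRange_ι]
  have e' : bc V.ι (Over.w (WeilRep.Glue.resι T V)) a = bc V.ι (Over.w (WeilRep.Glue.resι T V)) b := e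
  rw [← kills_bc (h := V.ι) (Over.w (WeilRep.Glue.resι T V)) a hW' m,
    ← kills_bc (h := V.ι) (Over.w (WeilRep.Glue.resι T V)) b hW' m, e']

/-- Sections of a product are determined by their components. -/
theorem pi_section_ext {ι : Type u} {N : ι → T.Modules} {W : T.Opens} {n n' : Γ(∏ᶜ N, W)}
    (h : ∀ i, (Pi.π N i).app W n = (Pi.π N i).app W n') : n = n' := by
  haveI : PreservesLimitsOfSize.{u, u} ((evaluation T.Opensᵒᵖ AddCommGrpCat.{u}).obj (op W) ⋙
      forget AddCommGrpCat.{u}) := comp_preservesLimits _ _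
  haveI : PreservesLimitsOfSize.{u, u} (LocalSections.secT (X := T) W) := comp_preservesLimits _ _
  exact Concrete.isLimit_ext _ (isLimitOfPreserves (LocalSections.secT (X := T) W) (limit.isLimit (Discrete.functor N)))
    n n' fun ⟨i⟩ => h i

section glue

variable {g : T ⟶ X} {ι : Type u} (V : ι → T.Opens) (gV : ∀ i, (V i : Scheme.{u}) ⟶ X)
  (hgV : ∀ i, (V i).ι ≫ g = gV i) (a : ∀ i, Pt E r (gV i))

/-- The component of the glued quotient. -/
def comp (i : ι) : (Scheme.Modules.pullback g).obj E ⟶ (Scheme.Modules.pushforward (V i).ι).obj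
    (cokernel ((equivShrink _).symm (a i)).1.arrow) :=
  DescAlg.PbSec.Rhom (V i).ι (hgV i) E ≫ (Scheme.Modules.pushforward (V i).ι).map (quo (a i))

theorem comp_app (i : ι) {W : T.Opens} (m : Γ((Scheme.Modules.pullback g).obj E, W)) :
    (comp V gV hgV a i).app W m = (quo (a i)).app ((V i).ι ⁻¹ᵁ W)
      (DescAlg.PbSec.R (V i).ι (hgV i) E le_rfl m) := by
  have : DescAlg.PbSec.R (V i).ι (hgV i) E (le_refl ((V i).ι ⁻¹ᵁ W)) m =
      (DescAlg.PbSec.Rhom (V i).ι (hgV i) E).app W m := TensorMod.Dual.rs_self _ _ _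
  rw [this]
  rfl

/-- The glued quotient map. -/
def total : (Scheme.Modules.pullback g).obj E ⟶
    ∏ᶜ fun i => (Scheme.Modules.pushforward (V i).ι).obj (cokernel ((equivShrink _).symm (a i)).1.arrow) :=
  Pi.lift (comp V gV hgV a)

theorem total_app_eq_zero {W : T.Opens} (m : Γ((Scheme.Modules.pullback g).obj E, W)) :
    (factorThruImage (total V gV hgV a)).app W m = 0 ↔
      ∀ i, Kills (a i) (DescAlg.PbSec.R (V i).ι (hgV i) E (le_refl ((V i).ι ⁻¹ᵁ W)) m) := by
  have hz : (factorThruImage (total V gV hgV a)).app W m = 0 ↔ (total V gV hgV a).app W m = 0 := by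
    conv_rhs => rw [← image.fac (total V gV hgV a), Scheme.Modules.Hom.comp_app, CategoryTheory.comp_apply]
    exact (map_eq_zero_iff _ (LocalSections.app_injective _ _)).symm
  have hπ : ∀ i, (Pi.π (fun i => (Scheme.Modules.pushforward (V i).ι).obj (cokernel ((equivShrink _).symm (a i)).1.arrow)) i).app W ((total V gV hgV a).app W m) = (quo (a i)).app ((V i).ι ⁻¹ᵁ W)
      (DescAlg.PbSec.R (V i).ι (hgV i) E le_rfl m) := fun i => by
    rw [← CategoryTheory.comp_apply, ← Scheme.Modules.Hom.comp_app, total, Pi.lift_π, comp_app]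
  rw [hz]
  refine ⟨fun e i => ?_, fun e => pi_section_ext fun i => ?_⟩
  · rw [Kills, ← hπ i, e, map_zero]
  · rw [hπ i, map_zero]
    exact e i

/-- The compatibility of local classes. -/
abbrev Compat : Prop :=
  ∀ i k (W : T.Opens) (_ : W ≤ V i ⊓ V k) (m : Γ((Scheme.Modules.pullback g).obj E, W)),
    Kills (a i) (DescAlg.PbSec.R (V i).ι (hgV i) E (le_refl ((V i).ι ⁻¹ᵁ W)) m) →
    Kills (a k) (DescAlg.PbSec.R (V k).ι (hgV k) E (le_refl ((V k).ι ⁻¹ᵁ W)) m)

theorem total_app_eq_zero_iff (hc : Compat V gV hgV a) (k : ι) {W : T.Opens} (hW : W ≤ V k)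
    (m : Γ((Scheme.Modules.pullback g).obj E, W)) :
    (factorThruImage (total V gV hgV a)).app W m = 0 ↔
      Kills (a k) (DescAlg.PbSec.R (V k).ι (hgV k) E (le_refl ((V k).ι ⁻¹ᵁ W)) m) := by
  rw [total_app_eq_zero]
  refine ⟨fun e => e k, fun e i => ?_⟩
  have hWi : (V i).ι ⁻¹ᵁ W = (V i).ι ⁻¹ᵁ (W ⊓ V i) := by
    rw [Scheme.Hom.preimage_inf, Scheme.Opens.ι_preimage_self, inf_top_eq]
  have e1 : Kills (a k) (DescAlg.PbSec.R (V k).ι (hgV k) E (le_refl ((V k).ι ⁻¹ᵁ (W ⊓ V i)))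
      (rs _ inf_le_left m)) := by
    have := kills_rs (a k) ((V k).ι.preimage_mono (inf_le_left : W ⊓ V i ≤ W)) e
    rw [TensorMod.Dual.rs, DescAlg.PbSec.map_R] at this
    rw [TensorMod.Dual.rs, DescAlg.PbSec.R_map]
    exact this
  have e2 := hc k i (W ⊓ V i) (le_inf (inf_le_left.trans hW) inf_le_right) _ e1
  rw [TensorMod.Dual.rs, DescAlg.PbSec.R_map] at e2
  have e3 := kills_rs (a i) hWi.le e2
  rwa [TensorMod.Dual.rs, DescAlg.PbSec.map_R] at e3

theorem exists_glue (hV : ∀ x, ∃ i, x ∈ V i) (hc : Compat V gV hgV a) :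
    ∃ b : Pt E r g, ∀ i, bc (V i).ι (hgV i) b = a i := by
  let L := Limits.image (total V gV hgV a)
  let s : (Scheme.Modules.pullback g).obj E ⟶ L := factorThruImage (total V gV hgV a)
  have key : ∀ k, ∃ i : (Scheme.Modules.pullback (V k).ι).obj L ≅ cokernel ((equivShrink _).symm (a k)).1.arrow,
      Grass.quotBC (hgV k) s ≫ i.hom = quo (a k) := by
    intro k
    haveI := epi_bc (hgV k) s
    have hk : ∀ (U : (V k : Scheme.{u}).Opens) (m : Γ((Scheme.Modules.pullback (gV k)).obj E, U)),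
        (Grass.quotBC (hgV k) s).app U m = 0 ↔ (quo (a k)).app U m = 0 := by
      intro U m
      have hr : (V k).ι ''ᵁ U ≤ V k := by simpa using Scheme.Hom.image_le_opensRange (V k).ι U
      have hU : (V k).ι ⁻¹ᵁ ((V k).ι ''ᵁ U) = U := (V k).ι.preimage_image_eq U
      generalize (V k).ι ''ᵁ U = W at hr hU
      subst hU
      have hr' : W ≤ (V k).ι.opensRange := by rwa [Scheme.Opens.opensRange_ι]
      obtain ⟨m, rfl⟩ := (OpenRes.bijective_R (V k).ι (hgV k) E hr').2 m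
      rw [kills_bc_iff (hgV k) s hr', total_app_eq_zero_iff V gV hgV a hc k hr]
    exact OpenRes.exists_iso_of_kills _ _
      (fun U m hm p hp => ⟨U, le_rfl, hp, by rw [TensorMod.Dual.rs_self]; exact (hk U m).1 hm⟩)
      (fun U m hm p hp => ⟨U, le_rfl, hp, by rw [TensorMod.Dual.rs_self]; exact (hk U m).2 hm⟩)
  have hL : FlatMod.IsFinLocFreeOfRank r L := rank_of_locally fun x => by
    obtain ⟨k, hk⟩ := hV x
    obtain ⟨i, -⟩ := key k
    exact ⟨V k, hk, TensorMod.LocFree.rank_of_iso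
      (((Scheme.Modules.restrictFunctorIsoPullback (V k).ι).app L) ≪≫ i).symm (rank_quo (a k))⟩
  refine ⟨cls s hL, fun k => ?_⟩
  haveI := epi_bc (hgV k) s
  obtain ⟨i, hi⟩ := key k
  rw [bc_cls _ (hgV k) s hL (epi_bc (hgV k) s), ← cls_quo (a k), cls_eq_iff]
  exact ⟨i, hi⟩

end glue

variable (E r) in
/-- Quotients of rank `r` of inverse images form a Zariski sheaf. -/
theorem isZSheaf : WeilRep.Glue.IsZSheaf (pre E r) where
  sep := sep E r
  glue T ι V hV a ha := by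
    refine exists_glue (g := T.hom) V (fun i => (WeilRep.Glue.res T (V i)).hom) (fun i => rfl) a hV ?_
    intro i k W hW m hm
    let gI := (WeilRep.Glue.res T (V i ⊓ V k)).hom
    have e : bc (T.left.homOfLE inf_le_left) (Over.w (WeilRep.Glue.resLE T inf_le_left)) (a i) =
        bc (T.left.homOfLE inf_le_right) (Over.w (WeilRep.Glue.resLE T inf_le_right)) (a k) := ha i k
    have tr : ∀ (l : ι) (hl : V i ⊓ V k ≤ V l),
        Kills (a l) (DescAlg.PbSec.R (V l).ι (rfl : (V l).ι ≫ T.hom = (WeilRep.Glue.res T (V l)).hom) E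
          (le_refl ((V l).ι ⁻¹ᵁ W)) m) ↔
        Kills (bc (T.left.homOfLE hl) (Over.w (WeilRep.Glue.resLE T hl)) (a l))
          (DescAlg.PbSec.R (V i ⊓ V k).ι (rfl : (V i ⊓ V k).ι ≫ T.hom = gI) E
            (le_refl ((V i ⊓ V k).ι ⁻¹ᵁ W)) m) := by
      intro l hl
      have hWl : (V l).ι ⁻¹ᵁ W ≤ (T.left.homOfLE hl).opensRange := by
        rw [Scheme.opensRange_homOfLE]
        exact (V l).ι.preimage_mono hW
      have hW2 : (T.left.homOfLE hl) ⁻¹ᵁ ((V l).ι ⁻¹ᵁ W) = (V i ⊓ V k).ι ⁻¹ᵁ W := by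
        rw [← Scheme.Hom.comp_preimage, Scheme.homOfLE_ι]
      rw [← kills_bc (h := T.left.homOfLE hl) (Over.w (WeilRep.Glue.resLE T hl)) (a l) hWl,
        kills_iff_rs _ hW2]
      refine iff_of_eq (congrArg (Kills _) ?_)
      exact (DescAlg.PbSec.map_R _ _ _ _ _ _).trans
        (DescAlg.PbSec.R_comp _ _ _ _ _ (Scheme.homOfLE_ι T.left hl) E _ _ m)
    exact (tr k inf_le_right).2 (e ▸ (tr i inf_le_left).1 hm)

end

end Groth.Agent.Lib.GrassGen
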